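import Cfsg.Agent.Lib.D4Inv.Twisted

/-!
The two classes of involutions of `³D₄(q)`, `q` even.
-/

set_option autoImplicit false
set_option linter.unusedSectionVars false
set_option linter.unusedSimpArgs false
set_option linter.unusedTactic false
set_option linter.unreachableTactic false
set_option linter.dupNamespace false
set_option maxRecDepth 100000
set_option maxHeartbeats 1000000

namespace CfsgLib.D4Inv

open Cfsg.Lie CfsgLib.Chev CfsgLib.Chev.Chev Matrix
open CfsgLib.Chev.T3D4 (ix ox tw gen)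

noncomputable section

local notation "Φ₄" => CfsgLib.Chev.chevD4
local notation "S₄" => CfsgLib.Chev.T3D4.S

variable {K : Type*} [Field K] [Fintype K] [CharP K 2] {q : ℕ} (hq : IsPrimePow q) (hK : Fintype.card K = q ^ 3)

theorem cmul_zero_field {x : C K} (h : W x * W x = 1) (p : C K → K) :
    p (cmul x x) = p C.zero := congrArg p ((sq_iff x).mp h)

/-- The case of a short leading coordinate. -/
theorem std_a {a c d e f : K} (ha : a ≠ 0) (he : σ hq hK e = e) (hf : σ hq hK f = f)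
    (hsq : W (tw6 hq hK 0 a c d e f) * W (tw6 hq hK 0 a c d e f) = 1) :
    IsStd hq hK (W (tw6 hq hK 0 a c d e f)) := by
  set s := σ hq hK with hs
  have h3 : ∀ x, s (s (s x)) = x := σ3 hq hK
  have a2 : s a ≠ 0 := by simp [ha]
  have a3 : s (s a) ≠ 0 := by simp [ha]
  have k3 := cmul_zero_field hsq C.d3
  simp [cmul, tw6, C.zero, sb, sa1, sa2, sa3, sc1, sc2, sc3, sd1, sd2, sd3, se, sf, CharTwo.add_self_eq_zero,
    ← hs] at k3
  set t := c / a with htd
  have htc : t * a = c := div_mul_cancel₀ _ ha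
  have hts : s t = t := by
    rw [htd, map_div₀, div_eq_div_iff a2 ha]
    have two : (2 : K) = 0 := CharTwo.two_eq_zero
    ring_nf at k3 ⊢
    linear_combination k3 - (c * s a + s (s d)) * two
  set d' := d + t * s a * s (s a) with hd'
  set e' := e + t * (a * s a * s (s a)) with he'
  set f' := f + t * e + t * t * (a * s a * s (s a)) with hf'
  have he'' : s e' = e' := by rw [he']; simp only [map_add, map_mul, h3, hts, he]; ring
  have hf'' : s f' = f' := by rw [hf']; simp only [map_add, map_mul, h3, hts, he, hf]; ring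
  have hstep : Cong hq hK (W (tw6 hq hK 0 a c d e f)) (W (tw6 hq hK 0 a 0 d' e' f')) := by
    refine cong_W hq hK (tw6 hq hK t 0 0 0 0 0) _ _ (W_mem hq hK hts (map_zero _) (map_zero _)) ?_ ?_
    · ext <;> simp [cmul, tw6, C.zero, sb, sa1, sa2, sa3, sc1, sc2, sc3, sd1, sd2, sd3, se, sf,
        CharTwo.add_self_eq_zero]
    · rw [← htc]
      ext <;> simp [cmul, tw6, C.zero, sb, sa1, sa2, sa3, sc1, sc2, sc3, sd1, sd2, sd3, se, sf,
        CharTwo.add_self_eq_zero, ← hs, hts, hd', he', hf', h3, he]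
      all_goals ring_nf
      all_goals simp [CharTwo.two_eq_zero, three_eq, four_eq_zero]
  refine IsStd.of_cong hstep ?_
  have htr := cmul_zero_field (hstep.sq hsq) C.e
  simp [cmul, tw6, C.zero, sb, sa1, sa2, sa3, sc1, sc2, sc3, sd1, sd2, sd3, se, sf, CharTwo.add_self_eq_zero,
    ← hs] at htr
  ring_nf at htr
  simp [CharTwo.two_eq_zero] at htr
  obtain ⟨u, hu⟩ : ∃ u, u = a * d' / (s a * s (s a)) := ⟨_, rfl⟩
  have hd1 : s a * s (s u) + s (s a) * s u = d' := by
    rw [hu]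
    simp only [map_mul, map_div₀, h3]
    field_simp
    linear_combination htr - (a * d') * (CharTwo.two_eq_zero : (2 : K) = 0)
  have hd2 := congrArg s hd1
  have hd3 := congrArg s hd2
  simp only [map_add, map_mul, h3] at hd2 hd3
  set e2 := e' + a * s a * s (s u) + a * s (s a) * s u + s a * s (s a) * u with he2
  set f2 := f' + a * s u * s (s u) + s a * u * s (s u) + s (s a) * u * s u + d' * u + s d' * s u + s (s d') * s (s u) with hf2
  have he2' : s e2 = e2 := by rw [he2]; simp only [map_add, map_mul, h3, he'']; ring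
  have hf2' : s f2 = f2 := by rw [hf2]; simp only [map_add, map_mul, h3, hf'']; ring
  refine IsStd.of_cong (y := W (tw6 hq hK 0 a 0 0 e2 f2)) (cong_W hq hK (tw6 hq hK 0 0 u 0 0 0) _ _
    (W_mem hq hK (map_zero _) (map_zero _) (map_zero _)) ?_ ?_) ?_
  · ext <;> simp [cmul, tw6, C.zero, sb, sa1, sa2, sa3, sc1, sc2, sc3, sd1, sd2, sd3, se, sf,
      CharTwo.add_self_eq_zero]
  · ext <;> simp [cmul, tw6, C.zero, sb, sa1, sa2, sa3, sc1, sc2, sc3, sd1, sd2, sd3, se, sf,
      CharTwo.add_self_eq_zero, ← hs, he2, hf2]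
    all_goals first
      | ring1
      | (ring_nf; simp [CharTwo.two_eq_zero, three_eq, four_eq_zero]; done)
      | linear_combination hd1 + d' * (CharTwo.two_eq_zero : (2 : K) = 0)
      | linear_combination hd2 + s d' * (CharTwo.two_eq_zero : (2 : K) = 0)
      | linear_combination hd3 + s (s d') * (CharTwo.two_eq_zero : (2 : K) = 0)
  refine IsStd.of_cong (y := W (tw6 hq hK 0 a 0 0 0 f2)) (cong_W hq hK (tw6 hq hK 0 0 0 (e2 / a) 0 0) _ _
    (W_mem hq hK (map_zero _) (map_zero _) (map_zero _)) ?_ ?_) ?_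
  · ext <;> simp [cmul, tw6, C.zero, sb, sa1, sa2, sa3, sc1, sc2, sc3, sd1, sd2, sd3, se, sf,
      CharTwo.add_self_eq_zero]
  · ext <;> simp [cmul, tw6, C.zero, sb, sa1, sa2, sa3, sc1, sc2, sc3, sd1, sd2, sd3, se, sf,
      CharTwo.add_self_eq_zero, ← hs, he2']
    all_goals field_simp
    all_goals ring_nf
    all_goals simp [CharTwo.two_eq_zero, three_eq, four_eq_zero]
  refine IsStd.of_cong (y := W (tw6 hq hK 0 0 a 0 f2 0)) ⟨_, nB_mem hq hK, ?_⟩
    (std_ab hq hK ha hf2' (map_zero _) (by simp))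
  have e1 : W (tw6 hq hK 0 a 0 0 0 f2) = xr (rt 18) a * xr (rt 13) (s a) * xr (rt 12) (s (s a)) * xr (rt 23) f2 := by
    simp [W, tw6, xr, mul_assoc, hs]
  have e2' : W (tw6 hq hK 0 0 a 0 f2 0) = xr (rt 19) a * xr (rt 16) (s a) * xr (rt 15) (s (s a)) * xr (rt 22) f2 := by
    simp [W, tw6, xr, mul_assoc, hs]
  rw [e1, e2', ← nB_conj (r := rt 18) (r' := rt 19) (by decide +kernel) a,
    ← nB_conj (r := rt 13) (r' := rt 16) (by decide +kernel) (s a),
    ← nB_conj (r := rt 12) (r' := rt 15) (by decide +kernel) (s (s a)),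
    ← nB_conj (r := rt 23) (r' := rt 22) (by decide +kernel) f2]
  group

/-- The case of a long leading coordinate. -/
theorem std_b {b c d e f : K} (hb : b ≠ 0) (hbs : σ hq hK b = b) (he : σ hq hK e = e) (hf : σ hq hK f = f)
    (hsq : W (tw6 hq hK b 0 c d e f) * W (tw6 hq hK b 0 c d e f) = 1) :
    IsStd hq hK (W (tw6 hq hK b 0 c d e f)) := by
  set s := σ hq hK with hs
  have h3 : ∀ x, s (s (s x)) = x := σ3 hq hK
  set t := c / b with htd
  have hbt : b * t = c := mul_div_cancel₀ _ hb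
  have hts : W (tw6 hq hK 0 t 0 0 0 0) ∈ (tw hq hK).fix := W_mem hq hK (map_zero _) (map_zero _) (map_zero _)
  set x1 := cmul (cmul (tw6 hq hK 0 t 0 0 0 0) (tw6 hq hK b 0 c d e f)) (tw6 hq hK 0 t 0 0 0 0) with hx1
  have hstep : Cong hq hK (W (tw6 hq hK b 0 c d e f)) (W x1) :=
    cong_W hq hK _ _ _ hts (by ext <;> simp [cmul, tw6, C.zero, sb, sa1, sa2, sa3, sc1, sc2, sc3, sd1, sd2, sd3, se,
      sf, CharTwo.add_self_eq_zero]) rfl
  have hfix : W x1 ∈ (tw hq hK).fix := by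
    rw [hx1, ← W_mul, ← W_mul]
    exact mul_mem (mul_mem hts (W_mem hq hK hbs he hf)) hts
  obtain ⟨b1, a1, c1, d1, e1, f1, hb1, he1, hf1, hx⟩ := W_twisted hq hK hfix
  have ka := congrArg C.a1 hx
  have kb := congrArg C.b hx
  have kc := congrArg C.c1 hx
  simp [hx1, cmul, tw6, C.zero, sb, sa1, sa2, sa3, sc1, sc2, sc3, sd1, sd2, sd3, se, sf,
    CharTwo.add_self_eq_zero, ← hs] at ka kb kc
  subst ka kb
  obtain rfl : c1 = 0 := by
    rw [← kc]
    linear_combination hbt + c * (CharTwo.two_eq_zero : (2 : K) = 0)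
  refine IsStd.of_cong hstep ?_
  rw [hx]
  have hsq1 := hstep.sq hsq
  rw [hx] at hsq1
  have hbe := cmul_zero_field hsq1 C.f
  simp [cmul, tw6, C.zero, sb, sa1, sa2, sa3, sc1, sc2, sc3, sd1, sd2, sd3, se, sf, CharTwo.add_self_eq_zero,
    ← hs] at hbe
  obtain rfl : e1 = 0 := by
    have : b * e1 = 0 := by linear_combination hbe - f1 * (CharTwo.two_eq_zero : (2 : K) = 0)
    exact (mul_eq_zero.mp this).resolve_left hb
  refine IsStd.of_cong (y := W (tw6 hq hK b 0 0 d1 0 0)) (cong_W hq hK (tw6 hq hK 0 0 0 0 (f1 / b) 0) _ _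
    (W_mem hq hK (map_zero _) (by rw [map_div₀, hf1, hbs]) (map_zero _)) ?_ ?_) ?_
  · ext <;> simp [cmul, tw6, C.zero, sb, sa1, sa2, sa3, sc1, sc2, sc3, sd1, sd2, sd3, se, sf,
      CharTwo.add_self_eq_zero]
  · ext <;> simp [cmul, tw6, C.zero, sb, sa1, sa2, sa3, sc1, sc2, sc3, sd1, sd2, sd3, se, sf,
      CharTwo.add_self_eq_zero, hb]
    all_goals field_simp
    all_goals ring_nf
    all_goals simp [CharTwo.two_eq_zero]
  by_cases hd : d1 = 0
  · subst hd
    refine IsStd.of_cong (y := W (tw6 hq hK 0 0 0 0 b 0)) ⟨_, nA_mem hq hK, ?_⟩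
      (std_top hq hK hbs (map_zero _) fun h => hb h.1)
    have e1 : W (tw6 hq hK b 0 0 0 0 0) = xr (rt 14) b := by simp [W, tw6, xr]
    have e2 : W (tw6 hq hK 0 0 0 0 b 0) = xr (rt 22) b := by simp [W, tw6, xr]
    rw [e1, e2]
    exact nA_conj (by decide +kernel) b
  set D := d1 / b with hD
  have hD0 : D ≠ 0 := div_ne_zero hd hb
  obtain ⟨r, hr⟩ := exists_sqrt (s D * s (s D) / D)
  have hr0 : r ≠ 0 := by
    rintro rfl
    rw [zero_pow two_ne_zero, eq_comm, div_eq_zero_iff, mul_eq_zero, map_eq_zero, map_eq_zero, map_eq_zero] at hr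
    tauto
  have key : s r * s (s r) = D := by
    refine sq_inj ?_
    have n1 : s D ≠ 0 := by simp [hD0]
    have n2 : s (s D) ≠ 0 := by simp [hD0]
    rw [mul_pow, ← map_pow, ← map_pow, ← map_pow, hr]
    simp only [map_div₀, map_mul, h3]
    field_simp
  have hbD : b * D = d1 := mul_div_cancel₀ _ hb
  have key2 := congrArg s key
  have key3 := congrArg s key2
  simp only [map_mul, h3] at key2 key3
  have hbd2 := congrArg s hbD
  have hbd3 := congrArg s hbd2
  simp only [map_mul, hbs] at hbd2 hbd3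
  set e2 := b * (r * s r * s (s r)) + (d1 * r + s d1 * s r + s (s d1) * s (s r)) with he2
  set f2 := b * b * (r * s r * s (s r)) with hf2
  set x2 := tw6 hq hK b 0 (b * r) 0 e2 f2 with hx2
  have hrs : W (tw6 hq hK 0 r 0 0 0 0) ∈ (tw hq hK).fix := W_mem hq hK (map_zero _) (map_zero _) (map_zero _)
  have hstep2 : Cong hq hK (W (tw6 hq hK b 0 0 d1 0 0)) (W x2) := by
    refine cong_W hq hK _ _ _ hrs ?_ ?_
    · ext <;> simp [cmul, tw6, C.zero, sb, sa1, sa2, sa3, sc1, sc2, sc3, sd1, sd2, sd3, se, sf,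
        CharTwo.add_self_eq_zero]
    · ext <;> simp [cmul, hx2, tw6, C.zero, sb, sa1, sa2, sa3, sc1, sc2, sc3, sd1, sd2, sd3, se, sf,
        CharTwo.add_self_eq_zero, ← hs, he2, hf2, hbs]
      all_goals first
        | ring1
        | (ring_nf; simp [CharTwo.two_eq_zero, three_eq, four_eq_zero]; done)
        | linear_combination hbD + b * key + (b * (s r * s (s r)) + d1) * (CharTwo.two_eq_zero : (2 : K) = 0)
        | linear_combination hbd2 + b * key2 + (b * (r * s (s r)) + s d1) * (CharTwo.two_eq_zero : (2 : K) = 0)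
        | linear_combination hbd3 + b * key3 + (b * (r * s r) + s (s d1)) * (CharTwo.two_eq_zero : (2 : K) = 0)
        | linear_combination (3 * b * (r * s r * s (s r))) * (CharTwo.two_eq_zero : (2 : K) = 0)
  refine IsStd.of_cong hstep2 ?_
  have hsq2 : W (tw6 hq hK b 0 0 d1 0 0) * W (tw6 hq hK b 0 0 d1 0 0) = 1 := by
    rw [sq_iff]
    ext <;> simp [cmul, tw6, C.zero, sb, sa1, sa2, sa3, sc1, sc2, sc3, sd1, sd2, sd3, se, sf,
      CharTwo.add_self_eq_zero]
  have hbe2 := cmul_zero_field (hstep2.sq hsq2) C.f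
  simp [cmul, hx2, tw6, C.zero, sb, sa1, sa2, sa3, sc1, sc2, sc3, sd1, sd2, sd3, se, sf,
    CharTwo.add_self_eq_zero, ← hs, hb] at hbe2
  have hf2' : s f2 = f2 := by rw [hf2]; simp only [map_mul, h3, hbs]; ring
  have he20 : e2 = 0 := by
    have : b * e2 = 0 := by linear_combination hbe2 - f2 * (CharTwo.two_eq_zero : (2 : K) = 0)
    exact (mul_eq_zero.mp this).resolve_left hb
  rw [hx2, he20]
  refine IsStd.of_cong (y := W (tw6 hq hK b 0 (b * r) 0 0 0)) (cong_W hq hK (tw6 hq hK 0 0 0 0 (f2 / b) 0) _ _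
    (W_mem hq hK (map_zero _) (by rw [map_div₀, hf2', hbs]) (map_zero _)) ?_ ?_) ?_
  · ext <;> simp [cmul, tw6, C.zero, sb, sa1, sa2, sa3, sc1, sc2, sc3, sd1, sd2, sd3, se, sf,
      CharTwo.add_self_eq_zero]
  · ext <;> simp [cmul, tw6, C.zero, sb, sa1, sa2, sa3, sc1, sc2, sc3, sd1, sd2, sd3, se, sf,
      CharTwo.add_self_eq_zero, hb]
    all_goals field_simp
    all_goals ring_nf
    all_goals simp [CharTwo.two_eq_zero]
  refine IsStd.of_cong (y := W (tw6 hq hK 0 0 0 (b * r) b 0)) ⟨_, nA_mem hq hK, ?_⟩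
    (std_mid hq hK (mul_ne_zero hb hr0) hbs (map_zero _))
  have e1 : W (tw6 hq hK b 0 (b * r) 0 0 0) =
      xr (rt 14) b * xr (rt 19) (b * r) * xr (rt 16) (s (b * r)) * xr (rt 15) (s (s (b * r))) := by
    simp [W, tw6, xr, mul_assoc, hs]
  have e2' : W (tw6 hq hK 0 0 0 (b * r) b 0) =
      xr (rt 22) b * xr (rt 17) (b * r) * xr (rt 20) (s (b * r)) * xr (rt 21) (s (s (b * r))) := by
    rw [← one_mul (xr (rt 22) b), ← W_zero (F := K), mul_e, mul_d1, mul_d2, mul_d3]
    refine W_congr ?_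
    ext <;> simp [tw6, C.zero, sd1, sd2, sd3, se, hs]
  rw [e1, e2', ← nA_conj (r := rt 14) (r' := rt 22) (by decide +kernel) b,
    ← nA_conj (r := rt 19) (r' := rt 17) (by decide +kernel) (b * r),
    ← nA_conj (r := rt 16) (r' := rt 20) (by decide +kernel) (s (b * r)),
    ← nA_conj (r := rt 15) (r' := rt 21) (by decide +kernel) (s (s (b * r)))]
  group

/-- Every involution is conjugate to a standard one. -/
theorem involution_cases {g : GL Cfsg.Lie.chevD4.Idx K} (hg : g ∈ (tw hq hK).fix) (h2 : g * g = 1) (hne : g ≠ 1) :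
    IsStd hq hK g := by
  classical
  haveI : Fact (Nat.Prime 2) := ⟨Nat.prime_two⟩
  obtain ⟨x, hx, hu⟩ : ∃ x ∈ (tw hq hK).fix, x * g * x⁻¹ ∈ Cfsg.Lie.chevD4.posUnipotent K := by
    have hU : Cfsg.Lie.chevD4.posUnipotent K ⊓ (tw hq hK).fix ≤ (tw hq hK).fix := inf_le_right
    set U : Subgroup ↥(tw hq hK).fix := (Cfsg.Lie.chevD4.posUnipotent K ⊓ (tw hq hK).fix).subgroupOf (tw hq hK).fix
    have hcardU : Nat.card U = q ^ 12 := by
      rw [Nat.card_congr (Subgroup.subgroupOfEquivOfLe hU).toEquiv, ← T3D4.eq_fix hq hK, T3D4.card_U hq hK]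
    have h2q3 : (2 : ℕ) ∣ q ^ 3 := by
      rw [← hK, ← CharP.cast_eq_zero_iff K 2, FiniteField.cast_card_eq_zero]
    have h2q : 2 ∣ q := Nat.prime_two.dvd_of_dvd_pow h2q3
    obtain ⟨p, j, hp, hj, hpq⟩ := id hq
    have hp2 : p = 2 := ((Nat.prime_dvd_prime_iff_eq Nat.prime_two hp.nat_prime).mp
      (Nat.prime_two.dvd_of_dvd_pow (hpq ▸ h2q))).symm
    have hidx : ¬ 2 ∣ U.index := by
      have h2 := U.card_mul_index
      have hG : Nat.card ↥(tw hq hK).fix = q ^ 12 * ((q ^ 2 - 1) * ((q ^ 6 - 1) * (q ^ 8 + q ^ 4 + 1))) := by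
        rw [← T3D4.eq_fix hq hK, T3D4.card_G hq hK]; ring
      rw [hcardU, hG] at h2
      rw [Nat.eq_of_mul_eq_mul_left (pow_pos hq.pos _) h2]
      have hev : Even q := even_iff_two_dvd.mpr h2q
      have e2 : Odd (q ^ 2 - 1) := Nat.Even.sub_odd (Nat.one_le_pow _ _ hq.pos) (hev.pow_of_ne_zero two_ne_zero) odd_one
      have e6 : Odd (q ^ 6 - 1) := Nat.Even.sub_odd (Nat.one_le_pow _ _ hq.pos) (hev.pow_of_ne_zero (by norm_num)) odd_one
      have e8 : Odd (q ^ 8 + q ^ 4 + 1) :=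
        ((hev.pow_of_ne_zero (by norm_num)).add (hev.pow_of_ne_zero (by norm_num))).add_one
      exact Odd.not_two_dvd_nat (e2.mul (e6.mul e8))
    have hP : IsPGroup 2 U := IsPGroup.of_card (n := j * 12) (by rw [hcardU, pow_mul, ← hp2, hpq])
    let P : Sylow 2 ↥(tw hq hK).fix := hP.toSylow hidx
    let g' : ↥(tw hq hK).fix := ⟨g, hg⟩
    have hz : IsPGroup 2 (Subgroup.zpowers g') := by
      have h1 : orderOf g' ∣ 2 ^ 1 := orderOf_dvd_of_pow_eq_one (Subtype.ext (by simpa [g', sq] using h2))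
      obtain ⟨i, -, hi⟩ := (Nat.dvd_prime_pow Nat.prime_two).1 h1
      exact IsPGroup.of_card (n := i) (by rw [Nat.card_zpowers, hi])
    obtain ⟨Q, hQ⟩ := hz.exists_le_sylow
    obtain ⟨x, hx⟩ := MulAction.exists_smul_eq ↥(tw hq hK).fix Q P
    refine ⟨x, x.2, ?_⟩
    have : x * g' * x⁻¹ ∈ (P : Subgroup ↥(tw hq hK).fix) := by
      rw [← hx, Sylow.smul_def, Sylow.pointwise_smul_def]
      exact ⟨g', hQ (Subgroup.mem_zpowers g'), rfl⟩
    exact (Subgroup.mem_subgroupOf.mp this).1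
  obtain ⟨y, hy⟩ := exists_W hu
  have hfix : W y ∈ (tw hq hK).fix := hy ▸ mul_mem (mul_mem hx hg) (inv_mem hx)
  obtain ⟨b, a, c, d, e, f, hb, he, hf, rfl⟩ := W_twisted hq hK hfix
  have h0 : Cong hq hK g (W (tw6 hq hK b a c d e f)) := ⟨x, hx, hy⟩
  refine IsStd.of_cong h0 ?_
  have hsq := h0.sq h2
  have hab := cmul_zero_field hsq C.c1
  simp [cmul, tw6, C.zero, sb, sa1, sa2, sa3, sc1, sc2, sc3, sd1, sd2, sd3, se, sf,
    CharTwo.add_self_eq_zero] at hab
  by_cases hb0 : b = 0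
  · subst hb0
    by_cases ha0 : a = 0
    · subst ha0
      by_cases hc0 : c = 0
      · subst hc0
        by_cases hd0 : d = 0
        · subst hd0
          refine std_top hq hK he hf ?_
          rintro ⟨rfl, rfl⟩
          refine hne ?_
          have : W (tw6 hq hK 0 0 0 0 (0 : K) 0) = 1 := by simp [W, tw6]
          rw [this] at hy
          simpa [mul_inv_eq_one] using hy
        · exact std_mid hq hK hd0 he hf
      · refine std_ab hq hK hc0 he hf ?_
        have := cmul_zero_field hsq C.f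
        simp [cmul, tw6, C.zero, sb, sa1, sa2, sa3, sc1, sc2, sc3, sd1, sd2, sd3, se, sf,
          CharTwo.add_self_eq_zero] at this
        simp only [map_mul]
        linear_combination this - f * (CharTwo.two_eq_zero : (2 : K) = 0)
    · exact std_a hq hK ha0 he hf hsq
  · obtain rfl : a = 0 := by
      have : b * a = 0 := by linear_combination hab - c * (CharTwo.two_eq_zero : (2 : K) = 0)
      exact (mul_eq_zero.mp this).resolve_left hb0
    exact std_b hq hK hb0 hb he hf hsq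

/-- The two standard involutions are not conjugate. -/
theorem long_not_short : ¬ Cong hq hK (longInv hq hK) (shortInv hq hK) := by
  rintro ⟨g, hg, hgy⟩
  have hgen := gen hq hK
  obtain ⟨π, hπ, hnf⟩ := hgen.bruhat hg
  obtain ⟨hW, hρ⟩ := (S₄).mem_W1.mp hπ
  obtain ⟨n, hn, hnN, hnm⟩ := hgen.exists_nW1 hπ
  obtain ⟨b', ⟨hb', hb'f⟩, u, ⟨hu, -⟩, hge⟩ := hnf n hn hnN hnm
  obtain ⟨v, ⟨hv, -⟩, h, ⟨hh, -⟩, hbe⟩ := (tw hq hK).B_mem hb' hb'f
  subst hbe hge
  have hu' : u ∈ Cfsg.Lie.chevD4.posUnipotent K := by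
    rw [(Φ₄).posUnipotent_eq_US]; exact (Φ₄).US_mono (fun r hr => hr.1) hu
  have hL : longInv hq hK = xr (rt 23) 1 := by simp [longInv, W, tw6, xr]
  have hcu : u * xr (rt 23) 1 * u⁻¹ = xr (rt 23) 1 := by
    rw [← ((Φ₄).commute_U (h := rt 23) (show 24 ≤ 2 * 23 by decide) (by decide +kernel) (1 : K) hu').eq,
      mul_inv_cancel_right]
  obtain ⟨c, hc, hax, -⟩ := hnm.1 (rt 23)
  rw [(Φ₄).diagonalSubgroup_eq] at hh
  obtain ⟨dd, hd⟩ := hh
  have hd' : Tw.tor (Φ := Φ₄) dd = h := hd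
  obtain ⟨y, hy⟩ := exists_W (F := K) hv
  set z := (((Φ₄).toSys.chi ((Φ₄).coHom K dd) (π (rt 23)) : Kˣ) : K) * (c * 1) with hz
  have hz0 : z ≠ 0 := mul_ne_zero (Units.ne_zero _) (mul_ne_zero hc one_ne_zero)
  have h1 : shortInv hq hK * W y = W y * xr (π (rt 23)) z := by
    rw [← hgy, hL, ← hy]
    calc v * h * n * u * xr (rt 23) 1 * (v * h * n * u)⁻¹ * v
        = v * h * n * (u * xr (rt 23) 1 * u⁻¹) * n⁻¹ * h⁻¹ := by group
      _ = v * (h * (n * xr (rt 23) 1 * n⁻¹) * h⁻¹) := by rw [hcu]; group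
      _ = _ := by
        rw [xr, hax, ← hd', D4Torus.tor_xg, mul_inv_cancel_right]
  set e' := y.a1 + y.a2 + y.a3 with he'
  set f' := y.c1 + y.c2 + y.c3 with hf'
  have h2 : shortInv hq hK * W y = W y * W (⟨0, 0, 0, 0, 0, 0, 0, 1, 1, 1, e', f'⟩ : C K) := by
    rw [shortInv, W_mul, W_mul]
    refine W_congr ?_
    ext <;> simp [cmul, tw6, C.zero, sb, sa1, sa2, sa3, sc1, sc2, sc3, sd1, sd2, sd3, se, sf,
      CharTwo.add_self_eq_zero, he', hf']
    all_goals first
      | ring1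
      | (ring_nf; simp [CharTwo.two_eq_zero, three_eq, four_eq_zero]; done)
  have h3 := mul_left_cancel (h1.symm.trans h2)
  have hUmem : xr (π (rt 23)) z ∈ Cfsg.Lie.chevD4.posUnipotent K := by
    rw [h3, W]
    repeat' first | exact (Φ₄).xg_mem_U (show 24 ≤ _ by decide) _ | apply mul_mem
  have hpos := (Φ₄).xg_mem_U_imp hUmem hz0
  have hfixρ : (S₄).ρ (π (rt 23)) = π (rt 23) := by
    have h23 : (S₄).ρ (rt 23) = rt 23 := Fin.ext ((rho_val _).trans (by decide +kernel))
    have := hρ (rt 23)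
    rw [h23] at this
    exact this.symm
  have hcases : ∀ r : Fin Cfsg.Lie.chevD4.nroots, 24 ≤ 2 * r.val → morD4a.ρ r.val = r.val →
      r = rt 14 ∨ r = rt 22 ∨ r = rt 23 := by decide +kernel
  have hr := congrArg Fin.val hfixρ
  rw [rho_val] at hr
  rcases hcases _ hpos hr with er | er | er <;> rw [er] at h3
  · rw [show xr (rt 14) z = W (⟨z, 0, 0, 0, 0, 0, 0, 0, 0, 0, 0, 0⟩ : C K) by simp [W, xr]] at h3
    exact zero_ne_one (congrArg C.d1 (W_inj h3))
  · rw [show xr (rt 22) z = W (⟨0, 0, 0, 0, 0, 0, 0, 0, 0, 0, z, 0⟩ : C K) by simp [W, xr]] at h3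
    exact zero_ne_one (congrArg C.d1 (W_inj h3))
  · rw [show xr (rt 23) z = W (⟨0, 0, 0, 0, 0, 0, 0, 0, 0, 0, 0, z⟩ : C K) by simp [W, xr]] at h3
    exact zero_ne_one (congrArg C.d1 (W_inj h3))

include hq hK in
/-- `³D₄(q)`, `q` even, has exactly two classes of involutions. -/
theorem involution_classes :
    (ConjClasses.mk '' {g : ↥(twistedD4 K q) | orderOf g = 2}).ncard = 2 := by
  haveI : Fact (Nat.Prime 2) := ⟨Nat.prime_two⟩
  have hmem : ∀ b a c d e f : K, σ hq hK b = b → σ hq hK e = e → σ hq hK f = f →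
      W (tw6 hq hK b a c d e f) ∈ twistedD4 K q := fun b a c d e f h1 h2 h3 => by
    rw [T3D4.eq_fix hq hK]; exact W_mem hq hK h1 h2 h3
  set L : ↥(twistedD4 K q) := ⟨longInv hq hK, hmem _ _ _ _ _ _ (map_zero _) (map_zero _) (map_one _)⟩ with hL
  set S : ↥(twistedD4 K q) := ⟨shortInv hq hK, hmem _ _ _ _ _ _ (map_zero _) (map_zero _) (map_zero _)⟩ with hS
  have hconj : ∀ x y : ↥(twistedD4 K q), IsConj x y ↔ Cong hq hK x.1 y.1 := by
    intro x y
    rw [isConj_iff]
    constructor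
    · rintro ⟨c, hc⟩
      exact ⟨c.1, by rw [← T3D4.eq_fix hq hK]; exact c.2, congrArg Subtype.val hc⟩
    · rintro ⟨c, hc, he⟩
      exact ⟨⟨c, by rw [T3D4.eq_fix hq hK]; exact hc⟩, Subtype.ext he⟩
  have hord : ∀ (x : C K) (hx : W x ∈ twistedD4 K q), cmul x x = C.zero → x ≠ C.zero →
      orderOf (⟨W x, hx⟩ : ↥(twistedD4 K q)) = 2 := by
    intro x hx h1 h0
    rw [← Subgroup.orderOf_coe]
    exact orderOf_eq_prime (by rw [pow_two]; exact (sq_iff x).mpr h1)
      (fun e => h0 (W_inj (e.trans W_zero.symm)))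
  have hset : ConjClasses.mk '' {g : ↥(twistedD4 K q) | orderOf g = 2} = {ConjClasses.mk L, ConjClasses.mk S} := by
    refine Set.eq_of_subset_of_subset ?_ ?_
    · rintro _ ⟨g, hg, rfl⟩
      replace hg : orderOf g = 2 := hg
      have h2 : g * g = 1 := by rw [← pow_two, ← hg]; exact pow_orderOf_eq_one g
      have hne : g ≠ 1 := fun e => by
        rw [e, orderOf_one] at hg
        exact absurd hg (by norm_num)
      rcases involution_cases hq hK (g := g.1) (by rw [← T3D4.eq_fix hq hK]; exact g.2)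
        (congrArg Subtype.val h2) (fun e => hne (Subtype.ext e)) with h | h
      · exact Or.inl (ConjClasses.mk_eq_mk_iff_isConj.mpr ((hconj g L).mpr h))
      · exact Or.inr (ConjClasses.mk_eq_mk_iff_isConj.mpr ((hconj g S).mpr h))
    · rintro _ (rfl | rfl)
      · refine ⟨L, hord _ _ ?_ ?_, rfl⟩
        · ext <;> simp [cmul, tw6, C.zero, sb, sa1, sa2, sa3, sc1, sc2, sc3, sd1, sd2, sd3, se, sf,
            CharTwo.add_self_eq_zero]
        · intro e; simpa [tw6, C.zero] using congrArg C.f e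
      · refine ⟨S, hord _ _ ?_ ?_, rfl⟩
        · ext <;> simp [cmul, tw6, C.zero, sb, sa1, sa2, sa3, sc1, sc2, sc3, sd1, sd2, sd3, se, sf,
            CharTwo.add_self_eq_zero]
        · intro e; simpa [tw6, C.zero] using congrArg C.d1 e
  rw [hset, Set.ncard_pair]
  intro h
  exact long_not_short hq hK ((hconj L S).mp (ConjClasses.mk_eq_mk_iff_isConj.mp h))

end

end CfsgLib.D4Inv
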