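import Cfsg.Agent.Lib.D4Inv.Word
import Cfsg.Agent.Lib.D4Torus.Theta
import Cfsg.Agent.Lib.Chev.InvolutionsG2

/-!
Normal forms for the involutions of `³D₄(q)`, `q` even.
-/

set_option autoImplicit false
set_option linter.unusedSectionVars false
set_option linter.unusedSimpArgs false
set_option linter.unusedTactic false
set_option linter.unreachableTactic false
set_option linter.dupNamespace false
set_option maxRecDepth 100000
set_option maxHeartbeats 1000000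

namespace CfsgLib.D4Inv

open Cfsg.Lie CfsgLib.Chev CfsgLib.Chev.Chev Matrix
open CfsgLib.Chev.T3D4 (ix ox tw gen vec4 stable_iff frob_apply pow_q3)

noncomputable section

local notation "Φ₄" => CfsgLib.Chev.chevD4
local notation "S₄" => CfsgLib.Chev.T3D4.S

variable {K : Type*} [Field K] [Fintype K] [CharP K 2] {q : ℕ} (hq : IsPrimePow q) (hK : Fintype.card K = q ^ 3)

/-- The field automorphism. -/
def σ : K →+* K := T3D4.frob hq hK

theorem σ3 (x : K) : σ hq hK (σ hq hK (σ hq hK x)) = x := by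
  simp only [σ, frob_apply]; exact pow_q3 hK x

theorem sq_inj {x y : K} (h : x ^ 2 = y ^ 2) : x = y := by
  have h2 : (x - y) ^ 2 = 0 := by
    rw [sub_sq, h]
    linear_combination (y ^ 2 - x * y) * (CharTwo.two_eq_zero : (2 : K) = 0)
  exact sub_eq_zero.mp (pow_eq_zero_iff two_ne_zero |>.mp h2)

theorem exists_sqrt (x : K) : ∃ y, y ^ 2 = x := by
  haveI : Fact (Nat.Prime 2) := ⟨Nat.prime_two⟩
  exact perfect_finite 2 x

/-- The coordinates of a twisted element. -/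
def tw6 (b a c d e f : K) : C K :=
  ⟨b, a, σ hq hK a, σ hq hK (σ hq hK a), c, σ hq hK c, σ hq hK (σ hq hK c),
    d, σ hq hK d, σ hq hK (σ hq hK d), e, f⟩

theorem rho_val (r : Fin Cfsg.Lie.chevD4.nroots) : ((S₄).ρ r).val = morD4a.ρ r.val := symOKD4.rho_val r

theorem app_xr (r r' : Fin Cfsg.Lie.chevD4.nroots) (h : morD4a.ρ r.val = r'.val) (t : K) :
    (tw hq hK).app (xr r t) = xr r' (σ hq hK t) := by
  rw [xr, Tw.app_xg, show (S₄).ρ r = r' from Fin.ext ((rho_val r).trans h)]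
  have hl : ∀ r : Fin Cfsg.Lie.chevD4.nroots, morD4a.l r.val = 1 := by decide +kernel
  have he : ∀ r : Fin Cfsg.Lie.chevD4.nroots, morD4a.e r.val = 1 ∨ morD4a.e r.val = -1 := by decide +kernel
  show xr r' (((morD4a.e r.val : ℤ) : K) * t ^ (morD4a.l r.val * q)) = _
  rw [hl, one_mul, σ, frob_apply]
  rcases he r with e | e <;> simp [e, neg_one_eq, CharTwo.neg_eq]

theorem app_W (x : C K) : (tw hq hK).app (W x) = W ⟨σ hq hK x.b, σ hq hK x.a3, σ hq hK x.a1, σ hq hK x.a2,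
    σ hq hK x.c3, σ hq hK x.c1, σ hq hK x.c2, σ hq hK x.d3, σ hq hK x.d1, σ hq hK x.d2,
    σ hq hK x.e, σ hq hK x.f⟩ := by
  have g : ∀ (r : Fin Cfsg.Lie.chevD4.nroots) (t : K), xr r t ∈ Cfsg.Lie.chevD4.group K :=
    fun r t => (Φ₄).toAlg.xg_mem_group r t
  conv_lhs => rw [W]
  repeat rw [(tw hq hK).app_mul (by repeat' first | exact g _ _ | apply mul_mem) (g _ _)]
  rw [app_xr hq hK (rt 14) (rt 14) (by decide), app_xr hq hK (rt 18) (rt 13) (by decide),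
    app_xr hq hK (rt 13) (rt 12) (by decide), app_xr hq hK (rt 12) (rt 18) (by decide),
    app_xr hq hK (rt 19) (rt 16) (by decide), app_xr hq hK (rt 16) (rt 15) (by decide),
    app_xr hq hK (rt 15) (rt 19) (by decide), app_xr hq hK (rt 17) (rt 20) (by decide),
    app_xr hq hK (rt 20) (rt 21) (by decide), app_xr hq hK (rt 21) (rt 17) (by decide),
    app_xr hq hK (rt 22) (rt 22) (by decide), app_xr hq hK (rt 23) (rt 23) (by decide),
    ← one_mul (xr (rt 14) (σ hq hK x.b)), ← W_zero (F := K)]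
  simp only [mul_b, mul_a1, mul_a2, mul_a3, mul_c1, mul_c2, mul_c3, mul_d1, mul_d2, mul_d3, mul_e, mul_f]
  congr 1
  ext <;> simp [C.zero, sb, sa1, sa2, sa3, sc1, sc2, sc3, sd1, sd2, sd3, se, sf, CharTwo.add_self_eq_zero]

theorem xr_mem (x : C K) : W x ∈ Cfsg.Lie.chevD4.group K := by
  rw [W]
  repeat' first | exact (Φ₄).toAlg.xg_mem_group _ _ | apply mul_mem

theorem W_mem {b a c d e f : K} (hb : σ hq hK b = b) (he : σ hq hK e = e) (hf : σ hq hK f = f) :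
    W (tw6 hq hK b a c d e f) ∈ (tw hq hK).fix := by
  refine ⟨xr_mem _, ?_⟩
  rw [app_W]
  simp only [tw6, hb, he, hf, σ3]

theorem W_twisted {x : C K} (h : W x ∈ (tw hq hK).fix) :
    ∃ b a c d e f, σ hq hK b = b ∧ σ hq hK e = e ∧ σ hq hK f = f ∧ x = tw6 hq hK b a c d e f := by
  have h2 := h.2
  rw [app_W] at h2
  have := W_inj h2
  refine ⟨x.b, x.a1, x.c1, x.d1, x.e, x.f, congrArg C.b this, congrArg C.e this, congrArg C.f this, ?_⟩
  have a2 : σ hq hK x.a1 = x.a2 := congrArg C.a2 this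
  have a3 : σ hq hK x.a2 = x.a3 := congrArg C.a3 this
  have c2 : σ hq hK x.c1 = x.c2 := congrArg C.c2 this
  have c3 : σ hq hK x.c2 = x.c3 := congrArg C.c3 this
  have d2 : σ hq hK x.d1 = x.d2 := congrArg C.d2 this
  have d3 : σ hq hK x.d2 = x.d3 := congrArg C.d3 this
  ext <;> simp [tw6, a2, a3, c2, c3, d2, d3]

/-- Conjugate in the twisted group. -/
def Cong (g y : GL Cfsg.Lie.chevD4.Idx K) : Prop :=
  ∃ h ∈ (tw hq hK).fix, h * g * h⁻¹ = y

variable {hq hK}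

theorem Cong.trans {g y z : GL Cfsg.Lie.chevD4.Idx K} (h1 : Cong hq hK g y) (h2 : Cong hq hK y z) :
    Cong hq hK g z := by
  obtain ⟨h, hh, rfl⟩ := h1
  obtain ⟨k, hk, rfl⟩ := h2
  exact ⟨k * h, mul_mem hk hh, by group⟩

theorem Cong.sq {g y : GL Cfsg.Lie.chevD4.Idx K} (h1 : Cong hq hK g y) (h : g * g = 1) : y * y = 1 := by
  obtain ⟨h', -, rfl⟩ := h1
  calc h' * g * h'⁻¹ * (h' * g * h'⁻¹) = h' * (g * g) * h'⁻¹ := by group
    _ = 1 := by rw [h]; group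

variable (hq hK)

theorem sq_iff (x : C K) : W x * W x = 1 ↔ cmul x x = C.zero := by
  rw [W_mul, ← W_zero]
  exact ⟨W_inj, congrArg W⟩

theorem cong_W (s x y : C K) (hs : W s ∈ (tw hq hK).fix) (h2 : cmul s s = C.zero) (h : cmul (cmul s x) s = y) :
    Cong hq hK (W x) (W y) := by
  refine ⟨W s, hs, ?_⟩
  rw [inv_eq_of_mul_eq_one_right ((sq_iff s).mpr h2), W_mul, W_mul, h]

/-- The element of the group inverting the short fundamental root. -/
def nA : GL Cfsg.Lie.chevD4.Idx K :=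
  (Φ₄).nw ((Φ₄).p (ix 0)) 1 * (Φ₄).nw ((Φ₄).p (ix 2)) 1 * (Φ₄).nw ((Φ₄).p (ix 3)) 1

theorem nA_mem : (nA : GL Cfsg.Lie.chevD4.Idx K) ∈ (tw hq hK).fix := by
  have g := fun i => (Φ₄).nw_mem_group (F := K) ((Φ₄).p i) 1
  refine ⟨mul_mem (mul_mem (g _) (g _)) (g _), ?_⟩
  obtain ⟨t0, -, t2, t3⟩ := T3D4.tau_cases
  rw [nA, Tw.app_mul _ (mul_mem (g _) (g _)) (g _), Tw.app_mul _ (g _) (g _), Tw.app_nw, Tw.app_nw, Tw.app_nw,
    t0, t2, t3, one_pow, one_pow, one_pow,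
    ((Tw.orth_nw T3D4.orb1.oij 1 1).symm.mul_left (Tw.orth_nw T3D4.orb1.oil 1 1).symm).eq, mul_assoc]

theorem nB_mem : ((Φ₄).nw ((Φ₄).p (ix 1)) (1 : Kˣ)) ∈ (tw hq hK).fix := by
  refine ⟨(Φ₄).nw_mem_group _ _, ?_⟩
  rw [Tw.app_nw, T3D4.tau_cases.2.1, one_pow]

theorem nA_conj {r r' : Fin Cfsg.Lie.chevD4.nroots}
    (h : Cfsg.Lie.chevD4.reflectRoot 0 (Cfsg.Lie.chevD4.reflectRoot 2 (Cfsg.Lie.chevD4.reflectRoot 3 r.val)) = r'.val)
    (t : K) : nA * xr r t * nA⁻¹ = xr r' t := by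
  have e : (Φ₄).refl (ix 0) ((Φ₄).refl (ix 2) ((Φ₄).refl (ix 3) r)) = r' := Fin.ext (by
    rw [← (Φ₄).reflectRoot_eq, ← (Φ₄).reflectRoot_eq, ← (Φ₄).reflectRoot_eq]; exact h)
  rw [← e, xr, xr, ← (Φ₄).nw_conj_two, ← (Φ₄).nw_conj_two, ← (Φ₄).nw_conj_two, nA]
  group

theorem nB_conj {r r' : Fin Cfsg.Lie.chevD4.nroots} (h : Cfsg.Lie.chevD4.reflectRoot 1 r.val = r'.val) (t : K) :
    (Φ₄).nw ((Φ₄).p (ix 1)) (1 : Kˣ) * xr r t * ((Φ₄).nw ((Φ₄).p (ix 1)) (1 : Kˣ))⁻¹ = xr r' t := by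
  have e : (Φ₄).refl (ix 1) r = r' := Fin.ext (by rw [← (Φ₄).reflectRoot_eq]; exact h)
  rw [← e]
  exact (Φ₄).nw_conj_two (ix 1) r t

/-- The two standard involutions. -/
def longInv : GL Cfsg.Lie.chevD4.Idx K := W (tw6 hq hK 0 0 0 0 0 1)

/-- The short standard involution. -/
def shortInv : GL Cfsg.Lie.chevD4.Idx K := W (tw6 hq hK 0 0 0 1 0 0)

/-- Conjugate to a standard involution. -/
def IsStd (g : GL Cfsg.Lie.chevD4.Idx K) : Prop :=
  Cong hq hK g (longInv hq hK) ∨ Cong hq hK g (shortInv hq hK)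

variable {hq hK}

theorem IsStd.of_cong {g y : GL Cfsg.Lie.chevD4.Idx K} (h : Cong hq hK g y) (h' : IsStd hq hK y) : IsStd hq hK g :=
  h'.imp h.trans h.trans

variable (hq hK)

theorem tor_fix {d : Fin Cfsg.Lie.chevD4.rank → Kˣ} (hd : (tw hq hK).dmap d = d) :
    Tw.tor (Φ := Φ₄) d ∈ (tw hq hK).fix :=
  ⟨(Φ₄).B_le_group (H_le_B (Tw.tor_mem_H _)), by rw [Tw.app_tor, hd]⟩

theorem cong_torus_top {f : K} (hf : σ hq hK f = f) (hf0 : f ≠ 0) :
    Cong hq hK (W (tw6 hq hK 0 0 0 0 0 f)) (longInv hq hK) := by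
  have hq0 : (Units.mk0 f hf0)⁻¹ ^ q = (Units.mk0 f hf0)⁻¹ := by
    rw [inv_pow, _root_.inv_inj]
    refine Units.ext ?_
    rw [Units.val_pow_eq_pow_val]
    exact (T3D4.frob_apply hq hK f).symm.trans hf
  refine ⟨_, tor_fix hq hK ((stable_iff hq hK (vec4 1 (Units.mk0 f hf0)⁻¹ (1 ^ q) ((1 ^ q) ^ q))).mpr
    ⟨hq0, rfl, rfl⟩), ?_⟩
  have e : ∀ t : K, W (tw6 hq hK 0 0 0 0 0 t) = xr (rt 23) t := fun t => by simp [W, tw6, xr]
  rw [longInv, e, e, mul_inv_eq_iff_eq_mul, xr, D4Torus.tor_xg, D4Torus.chi_tor]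
  have c0 : Cfsg.Lie.chevD4.cartan 0 23 = 0 := by decide +kernel
  have c1 : Cfsg.Lie.chevD4.cartan 1 23 = 1 := by decide +kernel
  have c2 : Cfsg.Lie.chevD4.cartan 2 23 = 0 := by decide +kernel
  have c3 : Cfsg.Lie.chevD4.cartan 3 23 = 0 := by decide +kernel
  simp [c0, c1, c2, c3, vec4, hf0]

theorem cong_torus_mid {d : K} (hd0 : d ≠ 0) :
    Cong hq hK (W (tw6 hq hK 0 0 0 d 0 0)) (shortInv hq hK) := by
  set s := σ hq hK with hs
  obtain ⟨a, ha⟩ := exists_sqrt (s d⁻¹ * s (s d⁻¹))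
  have ha0 : a ≠ 0 := by
    rintro rfl
    simp [hd0] at ha
  have key : s a * s (s a) * a⁻¹ = d⁻¹ := by
    refine sq_inj ?_
    have e1 : s a ^ 2 = s (s d⁻¹) * d⁻¹ := by rw [← map_pow, ha, map_mul, hs, σ3]
    have e2 : s (s a) ^ 2 = d⁻¹ * s d⁻¹ := by rw [← map_pow, e1, map_mul, hs, σ3]
    rw [mul_pow, mul_pow, e1, e2, inv_pow, ha]
    generalize d⁻¹ = z at *
    have h3 : a ^ 2 ≠ 0 := pow_ne_zero 2 ha0
    rw [ha] at h3
    obtain ⟨n1, n2⟩ := mul_ne_zero_iff.mp h3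
    field_simp
  set u := Units.mk0 a ha0 with hu
  refine ⟨_, tor_fix hq hK ((stable_iff hq hK (vec4 u 1 (u ^ q) ((u ^ q) ^ q))).mpr ⟨one_pow q, rfl, rfl⟩), ?_⟩
  have e : ∀ t : K, W (tw6 hq hK 0 0 0 t 0 0) = xr (rt 17) t * xr (rt 20) (s t) * xr (rt 21) (s (s t)) :=
    fun t => by simp [W, tw6, xr, mul_assoc, hs]
  have hchi : ∀ r : Fin Cfsg.Lie.chevD4.nroots,
      ((Φ₄).toSys.chi ((Φ₄).coHom K (vec4 u 1 (u ^ q) ((u ^ q) ^ q))) r : K) =
        a ^ Cfsg.Lie.chevD4.cartan 0 r.val * s a ^ Cfsg.Lie.chevD4.cartan 2 r.val *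
          s (s a) ^ Cfsg.Lie.chevD4.cartan 3 r.val := by
    intro r
    rw [D4Torus.chi_tor]
    simp [vec4, hu, Units.val_zpow_eq_zpow_val, hs, σ, frob_apply]
  rw [shortInv, e, e, mul_inv_eq_iff_eq_mul]
  simp only [xr, ← mul_assoc]
  rw [D4Torus.tor_xg, mul_assoc _ (Tw.tor _), D4Torus.tor_xg, ← mul_assoc,
    mul_assoc _ (Tw.tor _), D4Torus.tor_xg, ← mul_assoc, hchi, hchi, hchi]
  have a0 : Cfsg.Lie.chevD4.cartan 0 17 = -1 := by decide +kernel
  have a2 : Cfsg.Lie.chevD4.cartan 2 17 = 1 := by decide +kernel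
  have a3 : Cfsg.Lie.chevD4.cartan 3 17 = 1 := by decide +kernel
  have b0 : Cfsg.Lie.chevD4.cartan 0 20 = 1 := by decide +kernel
  have b2 : Cfsg.Lie.chevD4.cartan 2 20 = -1 := by decide +kernel
  have b3 : Cfsg.Lie.chevD4.cartan 3 20 = 1 := by decide +kernel
  have c0 : Cfsg.Lie.chevD4.cartan 0 21 = 1 := by decide +kernel
  have c2 : Cfsg.Lie.chevD4.cartan 2 21 = 1 := by decide +kernel
  have c3 : Cfsg.Lie.chevD4.cartan 3 21 = -1 := by decide +kernel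
  have k1 := congrArg s key
  have k2 := congrArg s k1
  simp only [map_mul, map_inv₀, hs, σ3] at k1 k2
  simp only [a0, a2, a3, b0, b2, b3, c0, c2, c3, _root_.zpow_neg, _root_.zpow_one, map_one, hs]
  congr 4
  · rw [mul_assoc a⁻¹, mul_comm a⁻¹, key, inv_mul_cancel₀ hd0]
  · rw [mul_right_comm a, ← mul_comm ((σ hq hK) ((σ hq hK) a)), k1, inv_mul_cancel₀ (by simp [hd0])]
  · rw [k2, inv_mul_cancel₀ (by simp [hd0])]

/-- Nontrivial elements below the middle layer. -/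
theorem std_top {e f : K} (he : σ hq hK e = e) (hf : σ hq hK f = f) (hne : ¬ (e = 0 ∧ f = 0)) :
    IsStd hq hK (W (tw6 hq hK 0 0 0 0 e f)) := by
  by_cases he0 : e = 0
  · subst he0
    exact Or.inl (cong_torus_top hq hK hf fun h => hne ⟨rfl, h⟩)
  · refine IsStd.of_cong (y := W (tw6 hq hK 0 0 0 0 e 0)) (cong_W hq hK (tw6 hq hK (f / e) 0 0 0 0 0) _ _
      (W_mem hq hK (by rw [map_div₀, hf, he]) (map_zero _) (map_zero _)) ?_ ?_) ?_
    · ext <;> simp [cmul, tw6, C.zero, sb, sa1, sa2, sa3, sc1, sc2, sc3, sd1, sd2, sd3, se, sf, CharTwo.add_self_eq_zero]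
    · ext <;> simp [cmul, tw6, C.zero, sb, sa1, sa2, sa3, sc1, sc2, sc3, sd1, sd2, sd3, se, sf, CharTwo.add_self_eq_zero, he0]
    refine IsStd.of_cong (y := W (tw6 hq hK 0 0 0 0 0 e)) ⟨_, nB_mem hq hK, ?_⟩
      (Or.inl (cong_torus_top hq hK he he0))
    have e1 : W (tw6 hq hK 0 0 0 0 e 0) = xr (rt 22) e := by simp [W, tw6, xr]
    have e2 : W (tw6 hq hK 0 0 0 0 0 e) = xr (rt 23) e := by simp [W, tw6, xr]
    rw [e1, e2]
    exact nB_conj (by decide +kernel) e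

/-- The middle layer. -/
theorem std_mid {d e f : K} (hd : d ≠ 0) (he : σ hq hK e = e) (hf : σ hq hK f = f) :
    IsStd hq hK (W (tw6 hq hK 0 0 0 d e f)) := by
  have h1 : σ hq hK d ≠ 0 := by simp [hd]
  have h2 : σ hq hK (σ hq hK d) ≠ 0 := by simp [hd]
  refine IsStd.of_cong (y := W (tw6 hq hK 0 0 0 d 0 f)) (cong_W hq hK (tw6 hq hK 0 (e / d) 0 0 0 0) _ _
    (W_mem hq hK (map_zero _) (map_zero _) (map_zero _)) ?_ ?_) ?_
  · ext <;> simp [cmul, tw6, C.zero, sb, sa1, sa2, sa3, sc1, sc2, sc3, sd1, sd2, sd3, se, sf, CharTwo.add_self_eq_zero]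
  · ext <;> simp [cmul, tw6, C.zero, sb, sa1, sa2, sa3, sc1, sc2, sc3, sd1, sd2, sd3, se, sf, CharTwo.add_self_eq_zero, he, hf]
    all_goals field_simp
    all_goals ring_nf
    all_goals simp [CharTwo.two_eq_zero, four_eq_zero]
  refine IsStd.of_cong (y := W (tw6 hq hK 0 0 0 d 0 0)) (cong_W hq hK (tw6 hq hK 0 0 (f / d) 0 0 0) _ _
    (W_mem hq hK (map_zero _) (map_zero _) (map_zero _)) ?_ ?_) (Or.inr (cong_torus_mid hq hK hd))
  · ext <;> simp [cmul, tw6, C.zero, sb, sa1, sa2, sa3, sc1, sc2, sc3, sd1, sd2, sd3, se, sf, CharTwo.add_self_eq_zero]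
  · ext <;> simp [cmul, tw6, C.zero, sb, sa1, sa2, sa3, sc1, sc2, sc3, sd1, sd2, sd3, se, sf, CharTwo.add_self_eq_zero, he, hf]
    all_goals field_simp
    all_goals ring_nf
    all_goals simp [CharTwo.two_eq_zero, four_eq_zero]

/-- Leading coordinate on `a + b`. -/
theorem std_ab {c d e f : K} (hc : c ≠ 0) (he : σ hq hK e = e) (hf : σ hq hK f = f)
    (htr : c * d + σ hq hK (c * d) + σ hq hK (σ hq hK (c * d)) = 0) :
    IsStd hq hK (W (tw6 hq hK 0 0 c d e f)) := by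
  set s := σ hq hK with hs
  have h3 : ∀ x, s (s (s x)) = x := σ3 hq hK
  have c2 : s c ≠ 0 := by simp [hc]
  have c3 : s (s c) ≠ 0 := by simp [hc]
  set t := c * d / (s c * s (s c)) with ht
  have hR : ∀ e' f', cmul (cmul (tw6 hq hK 0 t 0 0 0 0) (tw6 hq hK 0 0 c d e f)) (tw6 hq hK 0 t 0 0 0 0) =
      tw6 hq hK 0 0 c 0 e' f' ↔ e' = e + c * s t * s (s t) + s c * t * s (s t) + s (s c) * t * s t +
        d * t + s d * s t + s (s d) * s (s t) ∧ f' = f + c * s c * s (s t) + c * s (s c) * s t + s c * s (s c) * t := by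
    intro e' f'
    have hd : s c * s (s t) + s (s c) * s t = d := by
      have hh := congrArg s htr
      rw [ht]
      simp only [map_mul, map_div₀, map_add, map_zero, h3] at hh htr ⊢
      field_simp
      linear_combination htr - (c * d) * (CharTwo.two_eq_zero : (2 : K) = 0)
    have hd2 := congrArg s hd
    have hd3 := congrArg s hd2
    simp only [map_add, map_mul, h3] at hd2 hd3
    constructor
    · intro h
      have he' := congrArg C.e h
      have hf' := congrArg C.f h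
      simp [cmul, tw6, C.zero, sb, sa1, sa2, sa3, sc1, sc2, sc3, sd1, sd2, sd3, se, sf, CharTwo.add_self_eq_zero, ← hs] at he' hf'
      refine ⟨?_, ?_⟩
      · rw [← he']; ring_nf
      · rw [← hf']; ring_nf
    · rintro ⟨rfl, rfl⟩
      ext <;> simp [cmul, tw6, C.zero, sb, sa1, sa2, sa3, sc1, sc2, sc3, sd1, sd2, sd3, se, sf, CharTwo.add_self_eq_zero, ← hs]
      all_goals first
        | ring1
        | linear_combination hd + d * (CharTwo.two_eq_zero : (2 : K) = 0)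
        | linear_combination hd2 + s d * (CharTwo.two_eq_zero : (2 : K) = 0)
        | linear_combination hd3 + s (s d) * (CharTwo.two_eq_zero : (2 : K) = 0)
  set e1 := e + c * s t * s (s t) + s c * t * s (s t) + s (s c) * t * s t + d * t + s d * s t + s (s d) * s (s t)
    with he1
  set f1 := f + c * s c * s (s t) + c * s (s c) * s t + s c * s (s c) * t with hf1
  have he1' : s e1 = e1 := by rw [he1]; simp only [map_add, map_mul, h3, he]; ring
  have hf1' : s f1 = f1 := by rw [hf1]; simp only [map_add, map_mul, h3, hf]; ring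
  refine IsStd.of_cong (y := W (tw6 hq hK 0 0 c 0 e1 f1)) (cong_W hq hK (tw6 hq hK 0 t 0 0 0 0) _ _
    (W_mem hq hK (map_zero _) (map_zero _) (map_zero _)) ?_ ((hR e1 f1).mpr ⟨rfl, rfl⟩)) ?_
  · ext <;> simp [cmul, tw6, C.zero, sb, sa1, sa2, sa3, sc1, sc2, sc3, sd1, sd2, sd3, se, sf, CharTwo.add_self_eq_zero]
  set N := c * s c * s (s c) with hN
  have hN0 : N ≠ 0 := mul_ne_zero (mul_ne_zero hc c2) c3
  have hNs : s N = N := by rw [hN]; simp only [map_mul, h3]; ring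
  obtain ⟨l, hl⟩ := exists_sqrt (e1 / N)
  have hls : s l = l := sq_inj (by rw [← map_pow, hl, map_div₀, he1', hNs])
  have hlN : l ^ 2 * N = e1 := by rw [hl, div_mul_cancel₀ _ hN0]
  refine IsStd.of_cong (y := W (tw6 hq hK 0 0 c 0 0 (f1 + l * N))) (cong_W hq hK (tw6 hq hK 0 (l * c) 0 0 0 0) _ _
    (W_mem hq hK (map_zero _) (map_zero _) (map_zero _)) ?_ ?_) ?_
  · ext <;> simp [cmul, tw6, C.zero, sb, sa1, sa2, sa3, sc1, sc2, sc3, sd1, sd2, sd3, se, sf, CharTwo.add_self_eq_zero]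
  · ext <;> simp [cmul, tw6, C.zero, sb, sa1, sa2, sa3, sc1, sc2, sc3, sd1, sd2, sd3, se, sf, CharTwo.add_self_eq_zero, ← hs, hls, ← hlN, hN]
    all_goals ring_nf
    all_goals simp [CharTwo.two_eq_zero, three_eq, four_eq_zero]
  set f2 := f1 + l * N with hf2
  have hf2' : s f2 = f2 := by rw [hf2, map_add, map_mul, hls, hNs, hf1']
  refine IsStd.of_cong (y := W (tw6 hq hK 0 0 c 0 0 0)) (cong_W hq hK (tw6 hq hK 0 0 0 (f2 / c) 0 0) _ _
    (W_mem hq hK (map_zero _) (map_zero _) (map_zero _)) ?_ ?_) ?_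
  · ext <;> simp [cmul, tw6, C.zero, sb, sa1, sa2, sa3, sc1, sc2, sc3, sd1, sd2, sd3, se, sf, CharTwo.add_self_eq_zero]
  · ext <;> simp [cmul, tw6, C.zero, sb, sa1, sa2, sa3, sc1, sc2, sc3, sd1, sd2, sd3, se, sf, CharTwo.add_self_eq_zero, ← hs, hf2']
    all_goals field_simp
    all_goals ring_nf
    all_goals simp [CharTwo.two_eq_zero, three_eq, four_eq_zero]
  refine IsStd.of_cong (y := W (tw6 hq hK 0 0 0 c 0 0)) ⟨_, nA_mem hq hK, ?_⟩ (Or.inr (cong_torus_mid hq hK hc))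
  have e2 : W (tw6 hq hK 0 0 c 0 0 0) = xr (rt 19) c * xr (rt 16) (s c) * xr (rt 15) (s (s c)) := by
    simp [W, tw6, xr, mul_assoc, hs]
  have e3 : W (tw6 hq hK 0 0 0 c 0 0) = xr (rt 17) c * xr (rt 20) (s c) * xr (rt 21) (s (s c)) := by
    simp [W, tw6, xr, mul_assoc, hs]
  rw [e2, e3, ← nA_conj (r := rt 19) (r' := rt 17) (by decide +kernel) c,
    ← nA_conj (r := rt 16) (r' := rt 20) (by decide +kernel) (s c),
    ← nA_conj (r := rt 15) (r' := rt 21) (by decide +kernel) (s (s c))]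
  group

end

end CfsgLib.D4Inv
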