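import Cfsg.Agent.Lib.Chev.Twist.TypeD4
import Cfsg.Agent.Lib.Chev.RootCentralizer

/-!
Multiplication in the unipotent group of type D4 in characteristic two.
-/

set_option autoImplicit false
set_option linter.unusedSectionVars false
set_option linter.unusedSimpArgs false
set_option linter.unusedTactic false
set_option linter.unreachableTactic false
set_option linter.dupNamespace false
set_option maxRecDepth 100000
set_option maxHeartbeats 1000000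

namespace CfsgLib.D4Inv

open Cfsg.Lie CfsgLib.Chev CfsgLib.Chev.Chev Matrix

noncomputable section

/-- A root of type D4. -/
abbrev rt (n : ℕ) (h : n < Cfsg.Lie.chevD4.nroots := by decide) : Fin Cfsg.Lie.chevD4.nroots := ⟨n, h⟩

variable {F : Type*} [Field F] [CharP F 2]

/-- A root element. -/
abbrev xr (r : Fin Cfsg.Lie.chevD4.nroots) (t : F) : GL Cfsg.Lie.chevD4.Idx F :=
  CfsgLib.Chev.chevD4.toAlg.xg r t

local notation "X" n:max t:max => xr (rt n) t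

theorem comm_two (r s : Fin Cfsg.Lie.chevD4.nroots) (hne : s ≠ r) (hneg : s ≠ r.rev)
    (h : Cfsg.Lie.chevD4.commTerms r.val s.val = []) (y t : F) (R : GL Cfsg.Lie.chevD4.Idx F) :
    xr s y * (xr r t * R) = xr r t * (xr s y * R) := by
  rw [← mul_assoc, ← mul_assoc, (CfsgLib.Chev.chevD4.commute_of_even hne hneg (by rw [h]; simp) t y).eq]

theorem swap_two (r s u : Fin Cfsg.Lie.chevD4.nroots) (hne : s ≠ r) (hneg : s ≠ r.rev)
    (h : (Cfsg.Lie.chevD4.commTerms r.val s.val).map (fun c => (c.1, c.2.1 % 2, c.2.2.1, c.2.2.2)) =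
      [(u.val, 1, 1, 1)]) (y t : F) (R : GL Cfsg.Lie.chevD4.Idx F) :
    xr s y * (xr r t * R) = xr r t * (xr s y * (xr u (t * y) * R)) := by
  obtain ⟨⟨u', z, i, j⟩, hL, he⟩ : ∃ c, Cfsg.Lie.chevD4.commTerms r.val s.val = [c] ∧
      (c.1, c.2.1 % 2, c.2.2.1, c.2.2.2) = (u.val, 1, 1, 1) := by
    obtain ⟨c, hc, he⟩ := List.map_eq_singleton_iff.mp h
    exact ⟨c, hc, he⟩
  simp only [Prod.mk.injEq] at he
  obtain ⟨rfl, hz, rfl, rfl⟩ := he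
  have hzF : (z : F) = 1 := by
    rw [← Int.emod_add_ediv_mul z 2, hz]
    simp [CharTwo.two_eq_zero]
  rw [← mul_assoc, CfsgLib.Chev.chevD4.comm_xg hne hneg t y, hL, mul_assoc, mul_assoc]
  simp [tval, hzF, neg_one_eq, CharTwo.neg_eq, mul_assoc]

theorem four_eq_zero : (4 : F) = 0 := by
  linear_combination (2 : F) * (CharTwo.two_eq_zero : (2 : F) = 0)

theorem mul_eq {r : Fin Cfsg.Lie.chevD4.nroots} {a b : F} {R S : GL Cfsg.Lie.chevD4.Idx F} (h : a = b) (h' : R = S) :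
    xr r a * R = xr r b * S := by rw [h, h']

theorem merge (r : Fin Cfsg.Lie.chevD4.nroots) (a b : F) (R : GL Cfsg.Lie.chevD4.Idx F) :
    xr r a * (xr r b * R) = xr r (a + b) * R := by
  rw [← mul_assoc, ← CfsgLib.Chev.chevD4.toAlg.xg_add]

theorem sw_a1_b (y t : F) (R : GL Cfsg.Lie.chevD4.Idx F) :
    X 18 y * (X 14 t * R) = X 14 t * (X 18 y * (X 19 (t * y) * R)) :=
  swap_two (rt 14) (rt 18) (rt 19) (by decide) (by decide) (by decide +kernel) y t R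

theorem sw_a2_b (y t : F) (R : GL Cfsg.Lie.chevD4.Idx F) :
    X 13 y * (X 14 t * R) = X 14 t * (X 13 y * (X 16 (t * y) * R)) :=
  swap_two (rt 14) (rt 13) (rt 16) (by decide) (by decide) (by decide +kernel) y t R

theorem sw_a3_b (y t : F) (R : GL Cfsg.Lie.chevD4.Idx F) :
    X 12 y * (X 14 t * R) = X 14 t * (X 12 y * (X 15 (t * y) * R)) :=
  swap_two (rt 14) (rt 12) (rt 15) (by decide) (by decide) (by decide +kernel) y t R

theorem sw_c1_b (y t : F) (R : GL Cfsg.Lie.chevD4.Idx F) :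
    X 19 y * (X 14 t * R) = X 14 t * (X 19 y * R) :=
  comm_two (rt 14) (rt 19) (by decide) (by decide) (by decide +kernel) y t R

theorem sw_c2_b (y t : F) (R : GL Cfsg.Lie.chevD4.Idx F) :
    X 16 y * (X 14 t * R) = X 14 t * (X 16 y * R) :=
  comm_two (rt 14) (rt 16) (by decide) (by decide) (by decide +kernel) y t R

theorem sw_c3_b (y t : F) (R : GL Cfsg.Lie.chevD4.Idx F) :
    X 15 y * (X 14 t * R) = X 14 t * (X 15 y * R) :=
  comm_two (rt 14) (rt 15) (by decide) (by decide) (by decide +kernel) y t R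

theorem sw_d1_b (y t : F) (R : GL Cfsg.Lie.chevD4.Idx F) :
    X 17 y * (X 14 t * R) = X 14 t * (X 17 y * R) :=
  comm_two (rt 14) (rt 17) (by decide) (by decide) (by decide +kernel) y t R

theorem sw_d2_b (y t : F) (R : GL Cfsg.Lie.chevD4.Idx F) :
    X 20 y * (X 14 t * R) = X 14 t * (X 20 y * R) :=
  comm_two (rt 14) (rt 20) (by decide) (by decide) (by decide +kernel) y t R

theorem sw_d3_b (y t : F) (R : GL Cfsg.Lie.chevD4.Idx F) :
    X 21 y * (X 14 t * R) = X 14 t * (X 21 y * R) :=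
  comm_two (rt 14) (rt 21) (by decide) (by decide) (by decide +kernel) y t R

theorem sw_e_b (y t : F) (R : GL Cfsg.Lie.chevD4.Idx F) :
    X 22 y * (X 14 t * R) = X 14 t * (X 22 y * (X 23 (t * y) * R)) :=
  swap_two (rt 14) (rt 22) (rt 23) (by decide) (by decide) (by decide +kernel) y t R

theorem sw_f_b (y t : F) (R : GL Cfsg.Lie.chevD4.Idx F) :
    X 23 y * (X 14 t * R) = X 14 t * (X 23 y * R) :=
  comm_two (rt 14) (rt 23) (by decide) (by decide) (by decide +kernel) y t R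

theorem sw_a2_a1 (y t : F) (R : GL Cfsg.Lie.chevD4.Idx F) :
    X 13 y * (X 18 t * R) = X 18 t * (X 13 y * R) :=
  comm_two (rt 18) (rt 13) (by decide) (by decide) (by decide +kernel) y t R

theorem sw_a3_a1 (y t : F) (R : GL Cfsg.Lie.chevD4.Idx F) :
    X 12 y * (X 18 t * R) = X 18 t * (X 12 y * R) :=
  comm_two (rt 18) (rt 12) (by decide) (by decide) (by decide +kernel) y t R

theorem sw_c1_a1 (y t : F) (R : GL Cfsg.Lie.chevD4.Idx F) :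
    X 19 y * (X 18 t * R) = X 18 t * (X 19 y * R) :=
  comm_two (rt 18) (rt 19) (by decide) (by decide) (by decide +kernel) y t R

theorem sw_c2_a1 (y t : F) (R : GL Cfsg.Lie.chevD4.Idx F) :
    X 16 y * (X 18 t * R) = X 18 t * (X 16 y * (X 21 (t * y) * R)) :=
  swap_two (rt 18) (rt 16) (rt 21) (by decide) (by decide) (by decide +kernel) y t R

theorem sw_c3_a1 (y t : F) (R : GL Cfsg.Lie.chevD4.Idx F) :
    X 15 y * (X 18 t * R) = X 18 t * (X 15 y * (X 20 (t * y) * R)) :=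
  swap_two (rt 18) (rt 15) (rt 20) (by decide) (by decide) (by decide +kernel) y t R

theorem sw_d1_a1 (y t : F) (R : GL Cfsg.Lie.chevD4.Idx F) :
    X 17 y * (X 18 t * R) = X 18 t * (X 17 y * (X 22 (t * y) * R)) :=
  swap_two (rt 18) (rt 17) (rt 22) (by decide) (by decide) (by decide +kernel) y t R

theorem sw_d2_a1 (y t : F) (R : GL Cfsg.Lie.chevD4.Idx F) :
    X 20 y * (X 18 t * R) = X 18 t * (X 20 y * R) :=
  comm_two (rt 18) (rt 20) (by decide) (by decide) (by decide +kernel) y t R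

theorem sw_d3_a1 (y t : F) (R : GL Cfsg.Lie.chevD4.Idx F) :
    X 21 y * (X 18 t * R) = X 18 t * (X 21 y * R) :=
  comm_two (rt 18) (rt 21) (by decide) (by decide) (by decide +kernel) y t R

theorem sw_e_a1 (y t : F) (R : GL Cfsg.Lie.chevD4.Idx F) :
    X 22 y * (X 18 t * R) = X 18 t * (X 22 y * R) :=
  comm_two (rt 18) (rt 22) (by decide) (by decide) (by decide +kernel) y t R

theorem sw_f_a1 (y t : F) (R : GL Cfsg.Lie.chevD4.Idx F) :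
    X 23 y * (X 18 t * R) = X 18 t * (X 23 y * R) :=
  comm_two (rt 18) (rt 23) (by decide) (by decide) (by decide +kernel) y t R

theorem sw_a3_a2 (y t : F) (R : GL Cfsg.Lie.chevD4.Idx F) :
    X 12 y * (X 13 t * R) = X 13 t * (X 12 y * R) :=
  comm_two (rt 13) (rt 12) (by decide) (by decide) (by decide +kernel) y t R

theorem sw_c1_a2 (y t : F) (R : GL Cfsg.Lie.chevD4.Idx F) :
    X 19 y * (X 13 t * R) = X 13 t * (X 19 y * (X 21 (t * y) * R)) :=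
  swap_two (rt 13) (rt 19) (rt 21) (by decide) (by decide) (by decide +kernel) y t R

theorem sw_c2_a2 (y t : F) (R : GL Cfsg.Lie.chevD4.Idx F) :
    X 16 y * (X 13 t * R) = X 13 t * (X 16 y * R) :=
  comm_two (rt 13) (rt 16) (by decide) (by decide) (by decide +kernel) y t R

theorem sw_c3_a2 (y t : F) (R : GL Cfsg.Lie.chevD4.Idx F) :
    X 15 y * (X 13 t * R) = X 13 t * (X 15 y * (X 17 (t * y) * R)) :=
  swap_two (rt 13) (rt 15) (rt 17) (by decide) (by decide) (by decide +kernel) y t R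

theorem sw_d1_a2 (y t : F) (R : GL Cfsg.Lie.chevD4.Idx F) :
    X 17 y * (X 13 t * R) = X 13 t * (X 17 y * R) :=
  comm_two (rt 13) (rt 17) (by decide) (by decide) (by decide +kernel) y t R

theorem sw_d2_a2 (y t : F) (R : GL Cfsg.Lie.chevD4.Idx F) :
    X 20 y * (X 13 t * R) = X 13 t * (X 20 y * (X 22 (t * y) * R)) :=
  swap_two (rt 13) (rt 20) (rt 22) (by decide) (by decide) (by decide +kernel) y t R

theorem sw_d3_a2 (y t : F) (R : GL Cfsg.Lie.chevD4.Idx F) :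
    X 21 y * (X 13 t * R) = X 13 t * (X 21 y * R) :=
  comm_two (rt 13) (rt 21) (by decide) (by decide) (by decide +kernel) y t R

theorem sw_e_a2 (y t : F) (R : GL Cfsg.Lie.chevD4.Idx F) :
    X 22 y * (X 13 t * R) = X 13 t * (X 22 y * R) :=
  comm_two (rt 13) (rt 22) (by decide) (by decide) (by decide +kernel) y t R

theorem sw_f_a2 (y t : F) (R : GL Cfsg.Lie.chevD4.Idx F) :
    X 23 y * (X 13 t * R) = X 13 t * (X 23 y * R) :=
  comm_two (rt 13) (rt 23) (by decide) (by decide) (by decide +kernel) y t R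

theorem sw_c1_a3 (y t : F) (R : GL Cfsg.Lie.chevD4.Idx F) :
    X 19 y * (X 12 t * R) = X 12 t * (X 19 y * (X 20 (t * y) * R)) :=
  swap_two (rt 12) (rt 19) (rt 20) (by decide) (by decide) (by decide +kernel) y t R

theorem sw_c2_a3 (y t : F) (R : GL Cfsg.Lie.chevD4.Idx F) :
    X 16 y * (X 12 t * R) = X 12 t * (X 16 y * (X 17 (t * y) * R)) :=
  swap_two (rt 12) (rt 16) (rt 17) (by decide) (by decide) (by decide +kernel) y t R

theorem sw_c3_a3 (y t : F) (R : GL Cfsg.Lie.chevD4.Idx F) :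
    X 15 y * (X 12 t * R) = X 12 t * (X 15 y * R) :=
  comm_two (rt 12) (rt 15) (by decide) (by decide) (by decide +kernel) y t R

theorem sw_d1_a3 (y t : F) (R : GL Cfsg.Lie.chevD4.Idx F) :
    X 17 y * (X 12 t * R) = X 12 t * (X 17 y * R) :=
  comm_two (rt 12) (rt 17) (by decide) (by decide) (by decide +kernel) y t R

theorem sw_d2_a3 (y t : F) (R : GL Cfsg.Lie.chevD4.Idx F) :
    X 20 y * (X 12 t * R) = X 12 t * (X 20 y * R) :=
  comm_two (rt 12) (rt 20) (by decide) (by decide) (by decide +kernel) y t R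

theorem sw_d3_a3 (y t : F) (R : GL Cfsg.Lie.chevD4.Idx F) :
    X 21 y * (X 12 t * R) = X 12 t * (X 21 y * (X 22 (t * y) * R)) :=
  swap_two (rt 12) (rt 21) (rt 22) (by decide) (by decide) (by decide +kernel) y t R

theorem sw_e_a3 (y t : F) (R : GL Cfsg.Lie.chevD4.Idx F) :
    X 22 y * (X 12 t * R) = X 12 t * (X 22 y * R) :=
  comm_two (rt 12) (rt 22) (by decide) (by decide) (by decide +kernel) y t R

theorem sw_f_a3 (y t : F) (R : GL Cfsg.Lie.chevD4.Idx F) :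
    X 23 y * (X 12 t * R) = X 12 t * (X 23 y * R) :=
  comm_two (rt 12) (rt 23) (by decide) (by decide) (by decide +kernel) y t R

theorem sw_c2_c1 (y t : F) (R : GL Cfsg.Lie.chevD4.Idx F) :
    X 16 y * (X 19 t * R) = X 19 t * (X 16 y * R) :=
  comm_two (rt 19) (rt 16) (by decide) (by decide) (by decide +kernel) y t R

theorem sw_c3_c1 (y t : F) (R : GL Cfsg.Lie.chevD4.Idx F) :
    X 15 y * (X 19 t * R) = X 19 t * (X 15 y * R) :=
  comm_two (rt 19) (rt 15) (by decide) (by decide) (by decide +kernel) y t R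

theorem sw_d1_c1 (y t : F) (R : GL Cfsg.Lie.chevD4.Idx F) :
    X 17 y * (X 19 t * R) = X 19 t * (X 17 y * (X 23 (t * y) * R)) :=
  swap_two (rt 19) (rt 17) (rt 23) (by decide) (by decide) (by decide +kernel) y t R

theorem sw_d2_c1 (y t : F) (R : GL Cfsg.Lie.chevD4.Idx F) :
    X 20 y * (X 19 t * R) = X 19 t * (X 20 y * R) :=
  comm_two (rt 19) (rt 20) (by decide) (by decide) (by decide +kernel) y t R

theorem sw_d3_c1 (y t : F) (R : GL Cfsg.Lie.chevD4.Idx F) :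
    X 21 y * (X 19 t * R) = X 19 t * (X 21 y * R) :=
  comm_two (rt 19) (rt 21) (by decide) (by decide) (by decide +kernel) y t R

theorem sw_e_c1 (y t : F) (R : GL Cfsg.Lie.chevD4.Idx F) :
    X 22 y * (X 19 t * R) = X 19 t * (X 22 y * R) :=
  comm_two (rt 19) (rt 22) (by decide) (by decide) (by decide +kernel) y t R

theorem sw_f_c1 (y t : F) (R : GL Cfsg.Lie.chevD4.Idx F) :
    X 23 y * (X 19 t * R) = X 19 t * (X 23 y * R) :=
  comm_two (rt 19) (rt 23) (by decide) (by decide) (by decide +kernel) y t R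

theorem sw_c3_c2 (y t : F) (R : GL Cfsg.Lie.chevD4.Idx F) :
    X 15 y * (X 16 t * R) = X 16 t * (X 15 y * R) :=
  comm_two (rt 16) (rt 15) (by decide) (by decide) (by decide +kernel) y t R

theorem sw_d1_c2 (y t : F) (R : GL Cfsg.Lie.chevD4.Idx F) :
    X 17 y * (X 16 t * R) = X 16 t * (X 17 y * R) :=
  comm_two (rt 16) (rt 17) (by decide) (by decide) (by decide +kernel) y t R

theorem sw_d2_c2 (y t : F) (R : GL Cfsg.Lie.chevD4.Idx F) :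
    X 20 y * (X 16 t * R) = X 16 t * (X 20 y * (X 23 (t * y) * R)) :=
  swap_two (rt 16) (rt 20) (rt 23) (by decide) (by decide) (by decide +kernel) y t R

theorem sw_d3_c2 (y t : F) (R : GL Cfsg.Lie.chevD4.Idx F) :
    X 21 y * (X 16 t * R) = X 16 t * (X 21 y * R) :=
  comm_two (rt 16) (rt 21) (by decide) (by decide) (by decide +kernel) y t R

theorem sw_e_c2 (y t : F) (R : GL Cfsg.Lie.chevD4.Idx F) :
    X 22 y * (X 16 t * R) = X 16 t * (X 22 y * R) :=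
  comm_two (rt 16) (rt 22) (by decide) (by decide) (by decide +kernel) y t R

theorem sw_f_c2 (y t : F) (R : GL Cfsg.Lie.chevD4.Idx F) :
    X 23 y * (X 16 t * R) = X 16 t * (X 23 y * R) :=
  comm_two (rt 16) (rt 23) (by decide) (by decide) (by decide +kernel) y t R

theorem sw_d1_c3 (y t : F) (R : GL Cfsg.Lie.chevD4.Idx F) :
    X 17 y * (X 15 t * R) = X 15 t * (X 17 y * R) :=
  comm_two (rt 15) (rt 17) (by decide) (by decide) (by decide +kernel) y t R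

theorem sw_d2_c3 (y t : F) (R : GL Cfsg.Lie.chevD4.Idx F) :
    X 20 y * (X 15 t * R) = X 15 t * (X 20 y * R) :=
  comm_two (rt 15) (rt 20) (by decide) (by decide) (by decide +kernel) y t R

theorem sw_d3_c3 (y t : F) (R : GL Cfsg.Lie.chevD4.Idx F) :
    X 21 y * (X 15 t * R) = X 15 t * (X 21 y * (X 23 (t * y) * R)) :=
  swap_two (rt 15) (rt 21) (rt 23) (by decide) (by decide) (by decide +kernel) y t R

theorem sw_e_c3 (y t : F) (R : GL Cfsg.Lie.chevD4.Idx F) :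
    X 22 y * (X 15 t * R) = X 15 t * (X 22 y * R) :=
  comm_two (rt 15) (rt 22) (by decide) (by decide) (by decide +kernel) y t R

theorem sw_f_c3 (y t : F) (R : GL Cfsg.Lie.chevD4.Idx F) :
    X 23 y * (X 15 t * R) = X 15 t * (X 23 y * R) :=
  comm_two (rt 15) (rt 23) (by decide) (by decide) (by decide +kernel) y t R

theorem sw_d2_d1 (y t : F) (R : GL Cfsg.Lie.chevD4.Idx F) :
    X 20 y * (X 17 t * R) = X 17 t * (X 20 y * R) :=
  comm_two (rt 17) (rt 20) (by decide) (by decide) (by decide +kernel) y t R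

theorem sw_d3_d1 (y t : F) (R : GL Cfsg.Lie.chevD4.Idx F) :
    X 21 y * (X 17 t * R) = X 17 t * (X 21 y * R) :=
  comm_two (rt 17) (rt 21) (by decide) (by decide) (by decide +kernel) y t R

theorem sw_e_d1 (y t : F) (R : GL Cfsg.Lie.chevD4.Idx F) :
    X 22 y * (X 17 t * R) = X 17 t * (X 22 y * R) :=
  comm_two (rt 17) (rt 22) (by decide) (by decide) (by decide +kernel) y t R

theorem sw_f_d1 (y t : F) (R : GL Cfsg.Lie.chevD4.Idx F) :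
    X 23 y * (X 17 t * R) = X 17 t * (X 23 y * R) :=
  comm_two (rt 17) (rt 23) (by decide) (by decide) (by decide +kernel) y t R

theorem sw_d3_d2 (y t : F) (R : GL Cfsg.Lie.chevD4.Idx F) :
    X 21 y * (X 20 t * R) = X 20 t * (X 21 y * R) :=
  comm_two (rt 20) (rt 21) (by decide) (by decide) (by decide +kernel) y t R

theorem sw_e_d2 (y t : F) (R : GL Cfsg.Lie.chevD4.Idx F) :
    X 22 y * (X 20 t * R) = X 20 t * (X 22 y * R) :=
  comm_two (rt 20) (rt 22) (by decide) (by decide) (by decide +kernel) y t R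

theorem sw_f_d2 (y t : F) (R : GL Cfsg.Lie.chevD4.Idx F) :
    X 23 y * (X 20 t * R) = X 20 t * (X 23 y * R) :=
  comm_two (rt 20) (rt 23) (by decide) (by decide) (by decide +kernel) y t R

theorem sw_e_d3 (y t : F) (R : GL Cfsg.Lie.chevD4.Idx F) :
    X 22 y * (X 21 t * R) = X 21 t * (X 22 y * R) :=
  comm_two (rt 21) (rt 22) (by decide) (by decide) (by decide +kernel) y t R

theorem sw_f_d3 (y t : F) (R : GL Cfsg.Lie.chevD4.Idx F) :
    X 23 y * (X 21 t * R) = X 21 t * (X 23 y * R) :=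
  comm_two (rt 21) (rt 23) (by decide) (by decide) (by decide +kernel) y t R

theorem sw_f_e (y t : F) (R : GL Cfsg.Lie.chevD4.Idx F) :
    X 23 y * (X 22 t * R) = X 22 t * (X 23 y * R) :=
  comm_two (rt 22) (rt 23) (by decide) (by decide) (by decide +kernel) y t R

/-- Coordinates in the unipotent group. -/
@[ext] structure C (F : Type*) where
  b : F
  a1 : F
  a2 : F
  a3 : F
  c1 : F
  c2 : F
  c3 : F
  d1 : F
  d2 : F
  d3 : F
  e : F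
  f : F

/-- The zero coordinates. -/
def C.zero : C F := ⟨0, 0, 0, 0, 0, 0, 0, 0, 0, 0, 0, 0⟩

/-- The element with given coordinates. -/
def W (x : C F) : GL Cfsg.Lie.chevD4.Idx F :=
  X 14 x.b * X 18 x.a1 * X 13 x.a2 * X 12 x.a3 * X 19 x.c1 * X 16 x.c2 * X 15 x.c3 * X 17 x.d1 * X 20 x.d2 * X 21 x.d3 * X 22 x.e * X 23 x.f

theorem W_zero : W (C.zero : C F) = 1 := by simp [W, C.zero]

theorem W_congr {x y : C F} (h : x = y) : W x = W y := congrArg W h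

theorem append_right {A B : GL Cfsg.Lie.chevD4.Idx F} (h : ∀ R, A * R = B * R) : A = B :=
  mul_right_cancel (h 1)

/-- Right multiplication by a root element. -/
def sb (x : C F) (t : F) : C F :=
  { x with b := x.b + t, c1 := x.c1 + t * x.a1, d1 := x.d1 + t * x.a2 * x.a3, c2 := x.c2 + t * x.a2, d2 := x.d2 + t * x.a1 * x.a3, c3 := x.c3 + t * x.a3, d3 := x.d3 + t * x.a1 * x.a2, e := x.e + t * x.a1 * x.a2 * x.a3, f := x.f + t * x.e + t * (x.c1 * x.a2 * x.a3 + x.c2 * x.a1 * x.a3 + x.c3 * x.a1 * x.a2) }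

theorem mul_b (x : C F) (t : F) : W x * X 14 t = W (sb x t) := by
  refine append_right fun R => ?_
  simp only [W, sb, mul_assoc, merge, sw_a1_b, sw_a2_b, sw_a3_b, sw_c1_b, sw_c2_b, sw_c3_b, sw_d1_b, sw_d2_b, sw_d3_b, sw_e_b, sw_f_b, sw_a2_a1, sw_a3_a1, sw_c1_a1, sw_c2_a1, sw_c3_a1, sw_d1_a1, sw_d2_a1, sw_d3_a1, sw_e_a1, sw_f_a1, sw_a3_a2, sw_c1_a2, sw_c2_a2, sw_c3_a2, sw_d1_a2, sw_d2_a2, sw_d3_a2, sw_e_a2, sw_f_a2, sw_c1_a3, sw_c2_a3, sw_c3_a3, sw_d1_a3, sw_d2_a3, sw_d3_a3, sw_e_a3, sw_f_a3, sw_c2_c1, sw_c3_c1, sw_d1_c1, sw_d2_c1, sw_d3_c1, sw_e_c1, sw_f_c1, sw_c3_c2, sw_d1_c2, sw_d2_c2, sw_d3_c2, sw_e_c2, sw_f_c2, sw_d1_c3, sw_d2_c3, sw_d3_c3, sw_e_c3, sw_f_c3, sw_d2_d1, sw_d3_d1, sw_e_d1, sw_f_d1, sw_d3_d2, sw_e_d2, sw_f_d2, sw_e_d3, sw_f_d3, sw_f_e]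
  repeat' first | with_reducible exact rfl | refine mul_eq ?_ ?_
  all_goals first | ring1 | (ring_nf; simp [CharTwo.two_eq_zero])

/-- Right multiplication by a root element. -/
def sa1 (x : C F) (t : F) : C F :=
  { x with a1 := x.a1 + t, d3 := x.d3 + t * x.c2, d2 := x.d2 + t * x.c3, e := x.e + t * x.d1, f := x.f + t * x.c2 * x.c3 }

theorem mul_a1 (x : C F) (t : F) : W x * X 18 t = W (sa1 x t) := by
  refine append_right fun R => ?_
  simp only [W, sa1, mul_assoc, merge, sw_a1_b, sw_a2_b, sw_a3_b, sw_c1_b, sw_c2_b, sw_c3_b, sw_d1_b, sw_d2_b, sw_d3_b, sw_e_b, sw_f_b, sw_a2_a1, sw_a3_a1, sw_c1_a1, sw_c2_a1, sw_c3_a1, sw_d1_a1, sw_d2_a1, sw_d3_a1, sw_e_a1, sw_f_a1, sw_a3_a2, sw_c1_a2, sw_c2_a2, sw_c3_a2, sw_d1_a2, sw_d2_a2, sw_d3_a2, sw_e_a2, sw_f_a2, sw_c1_a3, sw_c2_a3, sw_c3_a3, sw_d1_a3, sw_d2_a3, sw_d3_a3, sw_e_a3, sw_f_a3, sw_c2_c1, sw_c3_c1, sw_d1_c1, sw_d2_c1, sw_d3_c1,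 sw_e_c1, sw_f_c1, sw_c3_c2, sw_d1_c2, sw_d2_c2, sw_d3_c2, sw_e_c2, sw_f_c2, sw_d1_c3, sw_d2_c3, sw_d3_c3, sw_e_c3, sw_f_c3, sw_d2_d1, sw_d3_d1, sw_e_d1, sw_f_d1, sw_d3_d2, sw_e_d2, sw_f_d2, sw_e_d3, sw_f_d3, sw_f_e]
  repeat' first | with_reducible exact rfl | refine mul_eq ?_ ?_
  all_goals first | ring1 | (ring_nf; simp [CharTwo.two_eq_zero])

/-- Right multiplication by a root element. -/
def sa2 (x : C F) (t : F) : C F :=
  { x with a2 := x.a2 + t, d3 := x.d3 + t * x.c1, d1 := x.d1 + t * x.c3, e := x.e + t * x.d2, f := x.f + t * x.c1 * x.c3 }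

theorem mul_a2 (x : C F) (t : F) : W x * X 13 t = W (sa2 x t) := by
  refine append_right fun R => ?_
  simp only [W, sa2, mul_assoc, merge, sw_a1_b, sw_a2_b, sw_a3_b, sw_c1_b, sw_c2_b, sw_c3_b, sw_d1_b, sw_d2_b, sw_d3_b, sw_e_b, sw_f_b, sw_a2_a1, sw_a3_a1, sw_c1_a1, sw_c2_a1, sw_c3_a1, sw_d1_a1, sw_d2_a1, sw_d3_a1, sw_e_a1, sw_f_a1, sw_a3_a2, sw_c1_a2, sw_c2_a2, sw_c3_a2, sw_d1_a2, sw_d2_a2, sw_d3_a2, sw_e_a2, sw_f_a2, sw_c1_a3, sw_c2_a3, sw_c3_a3, sw_d1_a3, sw_d2_a3, sw_d3_a3, sw_e_a3, sw_f_a3, sw_c2_c1, sw_c3_c1, sw_d1_c1, sw_d2_c1, sw_d3_c1, sw_e_c1, sw_f_c1, sw_c3_c2, sw_d1_c2, sw_d2_c2, sw_d3_c2, sw_e_c2, sw_f_c2, sw_d1_c3, sw_d2_c3, sw_d3_c3, sw_e_c3, sw_f_c3, sw_d2_d1, sw_d3_d1, sw_e_d1, sw_f_d1, sw_d3_d2, sw_e_d2, sw_f_d2, sw_e_d3, sw_f_d3, sw_f_e]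
  repeat' first | with_reducible exact rfl | refine mul_eq ?_ ?_
  all_goals first | ring1 | (ring_nf; simp [CharTwo.two_eq_zero])

/-- Right multiplication by a root element. -/
def sa3 (x : C F) (t : F) : C F :=
  { x with a3 := x.a3 + t, d2 := x.d2 + t * x.c1, d1 := x.d1 + t * x.c2, e := x.e + t * x.d3, f := x.f + t * x.c1 * x.c2 }

theorem mul_a3 (x : C F) (t : F) : W x * X 12 t = W (sa3 x t) := by
  refine append_right fun R => ?_
  simp only [W, sa3, mul_assoc, merge, sw_a1_b, sw_a2_b, sw_a3_b, sw_c1_b, sw_c2_b, sw_c3_b, sw_d1_b, sw_d2_b, sw_d3_b, sw_e_b, sw_f_b, sw_a2_a1, sw_a3_a1, sw_c1_a1, sw_c2_a1, sw_c3_a1, sw_d1_a1, sw_d2_a1, sw_d3_a1, sw_e_a1, sw_f_a1, sw_a3_a2, sw_c1_a2, sw_c2_a2, sw_c3_a2, sw_d1_a2, sw_d2_a2, sw_d3_a2, sw_e_a2, sw_f_a2, sw_c1_a3, sw_c2_a3, sw_c3_a3, sw_d1_a3, sw_d2_a3, sw_d3_a3, sw_e_a3, sw_f_a3, sw_c2_c1, sw_c3_c1, sw_d1_c1, sw_d2_c1, sw_d3_c1,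 sw_e_c1, sw_f_c1, sw_c3_c2, sw_d1_c2, sw_d2_c2, sw_d3_c2, sw_e_c2, sw_f_c2, sw_d1_c3, sw_d2_c3, sw_d3_c3, sw_e_c3, sw_f_c3, sw_d2_d1, sw_d3_d1, sw_e_d1, sw_f_d1, sw_d3_d2, sw_e_d2, sw_f_d2, sw_e_d3, sw_f_d3, sw_f_e]
  repeat' first | with_reducible exact rfl | refine mul_eq ?_ ?_
  all_goals first | ring1 | (ring_nf; simp [CharTwo.two_eq_zero])

/-- Right multiplication by a root element. -/
def sc1 (x : C F) (t : F) : C F :=
  { x with c1 := x.c1 + t, f := x.f + t * x.d1 }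

theorem mul_c1 (x : C F) (t : F) : W x * X 19 t = W (sc1 x t) := by
  refine append_right fun R => ?_
  simp only [W, sc1, mul_assoc, merge, sw_a1_b, sw_a2_b, sw_a3_b, sw_c1_b, sw_c2_b, sw_c3_b, sw_d1_b, sw_d2_b, sw_d3_b, sw_e_b, sw_f_b, sw_a2_a1, sw_a3_a1, sw_c1_a1, sw_c2_a1, sw_c3_a1, sw_d1_a1, sw_d2_a1, sw_d3_a1, sw_e_a1, sw_f_a1, sw_a3_a2, sw_c1_a2, sw_c2_a2, sw_c3_a2, sw_d1_a2, sw_d2_a2, sw_d3_a2, sw_e_a2, sw_f_a2, sw_c1_a3, sw_c2_a3, sw_c3_a3, sw_d1_a3, sw_d2_a3, sw_d3_a3, sw_e_a3, sw_f_a3, sw_c2_c1, sw_c3_c1, sw_d1_c1, sw_d2_c1, sw_d3_c1, sw_e_c1, sw_f_c1, sw_c3_c2, sw_d1_c2, sw_d2_c2, sw_d3_c2, sw_e_c2, sw_f_c2, sw_d1_c3, sw_d2_c3, sw_d3_c3, sw_e_c3, sw_f_c3, sw_d2_d1, sw_d3_d1, sw_e_d1, sw_f_d1, sw_d3_d2, sw_e_d2, sw_f_d2, sw_e_d3, sw_f_d3, sw_f_e]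
  repeat' first | with_reducible exact rfl | refine mul_eq ?_ ?_
  all_goals first | ring1 | (ring_nf; simp [CharTwo.two_eq_zero])

/-- Right multiplication by a root element. -/
def sc2 (x : C F) (t : F) : C F :=
  { x with c2 := x.c2 + t, f := x.f + t * x.d2 }

theorem mul_c2 (x : C F) (t : F) : W x * X 16 t = W (sc2 x t) := by
  refine append_right fun R => ?_
  simp only [W, sc2, mul_assoc, merge, sw_a1_b, sw_a2_b, sw_a3_b, sw_c1_b, sw_c2_b, sw_c3_b, sw_d1_b, sw_d2_b, sw_d3_b, sw_e_b, sw_f_b, sw_a2_a1, sw_a3_a1, sw_c1_a1, sw_c2_a1, sw_c3_a1, sw_d1_a1, sw_d2_a1, sw_d3_a1, sw_e_a1, sw_f_a1, sw_a3_a2, sw_c1_a2, sw_c2_a2, sw_c3_a2, sw_d1_a2, sw_d2_a2, sw_d3_a2, sw_e_a2, sw_f_a2, sw_c1_a3, sw_c2_a3, sw_c3_a3, sw_d1_a3, sw_d2_a3, sw_d3_a3, sw_e_a3, sw_f_a3, sw_c2_c1, sw_c3_c1, sw_d1_c1, sw_d2_c1, sw_d3_c1, sw_e_c1, sw_f_c1, sw_c3_c2, sw_d1_c2, sw_d2_c2, sw_d3_c2, sw_e_c2,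 sw_f_c2, sw_d1_c3, sw_d2_c3, sw_d3_c3, sw_e_c3, sw_f_c3, sw_d2_d1, sw_d3_d1, sw_e_d1, sw_f_d1, sw_d3_d2, sw_e_d2, sw_f_d2, sw_e_d3, sw_f_d3, sw_f_e]
  repeat' first | with_reducible exact rfl | refine mul_eq ?_ ?_
  all_goals first | ring1 | (ring_nf; simp [CharTwo.two_eq_zero])

/-- Right multiplication by a root element. -/
def sc3 (x : C F) (t : F) : C F :=
  { x with c3 := x.c3 + t, f := x.f + t * x.d3 }

theorem mul_c3 (x : C F) (t : F) : W x * X 15 t = W (sc3 x t) := by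
  refine append_right fun R => ?_
  simp only [W, sc3, mul_assoc, merge, sw_a1_b, sw_a2_b, sw_a3_b, sw_c1_b, sw_c2_b, sw_c3_b, sw_d1_b, sw_d2_b, sw_d3_b, sw_e_b, sw_f_b, sw_a2_a1, sw_a3_a1, sw_c1_a1, sw_c2_a1, sw_c3_a1, sw_d1_a1, sw_d2_a1, sw_d3_a1, sw_e_a1, sw_f_a1, sw_a3_a2, sw_c1_a2, sw_c2_a2, sw_c3_a2, sw_d1_a2, sw_d2_a2, sw_d3_a2, sw_e_a2, sw_f_a2, sw_c1_a3, sw_c2_a3, sw_c3_a3, sw_d1_a3, sw_d2_a3, sw_d3_a3, sw_e_a3, sw_f_a3, sw_c2_c1, sw_c3_c1, sw_d1_c1, sw_d2_c1, sw_d3_c1, sw_e_c1, sw_f_c1, sw_c3_c2, sw_d1_c2, sw_d2_c2, sw_d3_c2, sw_e_c2, sw_f_c2, sw_d1_c3, sw_d2_c3, sw_d3_c3, sw_e_c3, sw_f_c3, sw_d2_d1, sw_d3_d1, sw_e_d1, sw_f_d1, sw_d3_d2, sw_e_d2, sw_f_d2, sw_e_d3, sw_f_d3, sw_f_e]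
  repeat' first | with_reducible exact rfl | refine mul_eq ?_ ?_
  all_goals first | ring1 | (ring_nf; simp [CharTwo.two_eq_zero])

/-- Right multiplication by a root element. -/
def sd1 (x : C F) (t : F) : C F :=
  { x with d1 := x.d1 + t }

theorem mul_d1 (x : C F) (t : F) : W x * X 17 t = W (sd1 x t) := by
  refine append_right fun R => ?_
  simp only [W, sd1, mul_assoc, merge, sw_a1_b, sw_a2_b, sw_a3_b, sw_c1_b, sw_c2_b, sw_c3_b, sw_d1_b, sw_d2_b, sw_d3_b, sw_e_b, sw_f_b, sw_a2_a1, sw_a3_a1, sw_c1_a1, sw_c2_a1, sw_c3_a1, sw_d1_a1, sw_d2_a1, sw_d3_a1, sw_e_a1, sw_f_a1, sw_a3_a2, sw_c1_a2, sw_c2_a2, sw_c3_a2, sw_d1_a2, sw_d2_a2, sw_d3_a2, sw_e_a2, sw_f_a2, sw_c1_a3, sw_c2_a3, sw_c3_a3, sw_d1_a3, sw_d2_a3, sw_d3_a3, sw_e_a3, sw_f_a3, sw_c2_c1, sw_c3_c1, sw_d1_c1, sw_d2_c1, sw_d3_c1, sw_e_c1, sw_f_c1, sw_c3_c2, sw_d1_c2, sw_d2_c2, sw_d3_c2, sw_e_c2, sw_f_c2, sw_d1_c3,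 sw_d2_c3, sw_d3_c3, sw_e_c3, sw_f_c3, sw_d2_d1, sw_d3_d1, sw_e_d1, sw_f_d1, sw_d3_d2, sw_e_d2, sw_f_d2, sw_e_d3, sw_f_d3, sw_f_e]
  repeat' first | with_reducible exact rfl | refine mul_eq ?_ ?_
  all_goals first | ring1 | (ring_nf; simp [CharTwo.two_eq_zero])

/-- Right multiplication by a root element. -/
def sd2 (x : C F) (t : F) : C F :=
  { x with d2 := x.d2 + t }

theorem mul_d2 (x : C F) (t : F) : W x * X 20 t = W (sd2 x t) := by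
  refine append_right fun R => ?_
  simp only [W, sd2, mul_assoc, merge, sw_a1_b, sw_a2_b, sw_a3_b, sw_c1_b, sw_c2_b, sw_c3_b, sw_d1_b, sw_d2_b, sw_d3_b, sw_e_b, sw_f_b, sw_a2_a1, sw_a3_a1, sw_c1_a1, sw_c2_a1, sw_c3_a1, sw_d1_a1, sw_d2_a1, sw_d3_a1, sw_e_a1, sw_f_a1, sw_a3_a2, sw_c1_a2, sw_c2_a2, sw_c3_a2, sw_d1_a2, sw_d2_a2, sw_d3_a2, sw_e_a2, sw_f_a2, sw_c1_a3, sw_c2_a3, sw_c3_a3, sw_d1_a3, sw_d2_a3, sw_d3_a3, sw_e_a3, sw_f_a3, sw_c2_c1, sw_c3_c1, sw_d1_c1, sw_d2_c1, sw_d3_c1, sw_e_c1, sw_f_c1, sw_c3_c2, sw_d1_c2, sw_d2_c2, sw_d3_c2, sw_e_c2, sw_f_c2, sw_d1_c3, sw_d2_c3, sw_d3_c3, sw_e_c3, sw_f_c3, sw_d2_d1, sw_d3_d1, sw_e_d1, sw_f_d1, sw_d3_d2, sw_e_d2, sw_f_d2, sw_e_d3, sw_f_d3, sw_f_e]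
  repeat' first | with_reducible exact rfl | refine mul_eq ?_ ?_
  all_goals first | ring1 | (ring_nf; simp [CharTwo.two_eq_zero])

/-- Right multiplication by a root element. -/
def sd3 (x : C F) (t : F) : C F :=
  { x with d3 := x.d3 + t }

theorem mul_d3 (x : C F) (t : F) : W x * X 21 t = W (sd3 x t) := by
  refine append_right fun R => ?_
  simp only [W, sd3, mul_assoc, merge, sw_a1_b, sw_a2_b, sw_a3_b, sw_c1_b, sw_c2_b, sw_c3_b, sw_d1_b, sw_d2_b, sw_d3_b, sw_e_b, sw_f_b, sw_a2_a1, sw_a3_a1, sw_c1_a1, sw_c2_a1, sw_c3_a1, sw_d1_a1, sw_d2_a1, sw_d3_a1, sw_e_a1, sw_f_a1, sw_a3_a2, sw_c1_a2, sw_c2_a2, sw_c3_a2, sw_d1_a2, sw_d2_a2, sw_d3_a2, sw_e_a2, sw_f_a2, sw_c1_a3, sw_c2_a3, sw_c3_a3, sw_d1_a3, sw_d2_a3, sw_d3_a3, sw_e_a3, sw_f_a3, sw_c2_c1, sw_c3_c1, sw_d1_c1, sw_d2_c1, sw_d3_c1, sw_e_c1, sw_f_c1, sw_c3_c2, sw_d1_c2, sw_d2_c2, sw_d3_c2, sw_e_c2, sw_f_c2, sw_d1_c3,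 sw_d2_c3, sw_d3_c3, sw_e_c3, sw_f_c3, sw_d2_d1, sw_d3_d1, sw_e_d1, sw_f_d1, sw_d3_d2, sw_e_d2, sw_f_d2, sw_e_d3, sw_f_d3, sw_f_e]
  repeat' first | with_reducible exact rfl | refine mul_eq ?_ ?_
  all_goals first | ring1 | (ring_nf; simp [CharTwo.two_eq_zero])

/-- Right multiplication by a root element. -/
def se (x : C F) (t : F) : C F :=
  { x with e := x.e + t }

theorem mul_e (x : C F) (t : F) : W x * X 22 t = W (se x t) := by
  refine append_right fun R => ?_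
  simp only [W, se, mul_assoc, merge, sw_a1_b, sw_a2_b, sw_a3_b, sw_c1_b, sw_c2_b, sw_c3_b, sw_d1_b, sw_d2_b, sw_d3_b, sw_e_b, sw_f_b, sw_a2_a1, sw_a3_a1, sw_c1_a1, sw_c2_a1, sw_c3_a1, sw_d1_a1, sw_d2_a1, sw_d3_a1, sw_e_a1, sw_f_a1, sw_a3_a2, sw_c1_a2, sw_c2_a2, sw_c3_a2, sw_d1_a2, sw_d2_a2, sw_d3_a2, sw_e_a2, sw_f_a2, sw_c1_a3, sw_c2_a3, sw_c3_a3, sw_d1_a3, sw_d2_a3, sw_d3_a3, sw_e_a3, sw_f_a3, sw_c2_c1, sw_c3_c1, sw_d1_c1, sw_d2_c1, sw_d3_c1, sw_e_c1, sw_f_c1, sw_c3_c2, sw_d1_c2, sw_d2_c2, sw_d3_c2, sw_e_c2, sw_f_c2, sw_d1_c3, sw_d2_c3, sw_d3_c3, sw_e_c3, sw_f_c3, sw_d2_d1, sw_d3_d1, sw_e_d1, sw_f_d1, sw_d3_d2, sw_e_d2, sw_f_d2, sw_e_d3, sw_f_d3, sw_f_e]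
  repeat' first | with_reducible exact rfl | refine mul_eq ?_ ?_
  all_goals first | ring1 | (ring_nf; simp [CharTwo.two_eq_zero])

/-- Right multiplication by a root element. -/
def sf (x : C F) (t : F) : C F :=
  { x with f := x.f + t }

theorem mul_f (x : C F) (t : F) : W x * X 23 t = W (sf x t) := by
  refine append_right fun R => ?_
  simp only [W, sf, mul_assoc, merge, sw_a1_b, sw_a2_b, sw_a3_b, sw_c1_b, sw_c2_b, sw_c3_b, sw_d1_b, sw_d2_b, sw_d3_b, sw_e_b, sw_f_b, sw_a2_a1, sw_a3_a1, sw_c1_a1, sw_c2_a1, sw_c3_a1, sw_d1_a1, sw_d2_a1, sw_d3_a1, sw_e_a1, sw_f_a1, sw_a3_a2, sw_c1_a2, sw_c2_a2, sw_c3_a2, sw_d1_a2, sw_d2_a2, sw_d3_a2, sw_e_a2, sw_f_a2, sw_c1_a3, sw_c2_a3, sw_c3_a3, sw_d1_a3, sw_d2_a3, sw_d3_a3, sw_e_a3, sw_f_a3, sw_c2_c1, sw_c3_c1, sw_d1_c1, sw_d2_c1, sw_d3_c1, sw_e_c1, sw_f_c1, sw_c3_c2, sw_d1_c2, sw_d2_c2, sw_d3_c2, sw_e_c2, sw_f_c2, sw_d1_c3, sw_d2_c3,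 sw_d3_c3, sw_e_c3, sw_f_c3, sw_d2_d1, sw_d3_d1, sw_e_d1, sw_f_d1, sw_d3_d2, sw_e_d2, sw_f_d2, sw_e_d3, sw_f_d3, sw_f_e]
  repeat' first | with_reducible exact rfl | refine mul_eq ?_ ?_
  all_goals first | ring1 | (ring_nf; simp [CharTwo.two_eq_zero])

/-- The product on coordinates. -/
def cmul (x y : C F) : C F :=
  sf (se (sd3 (sd2 (sd1 (sc3 (sc2 (sc1 (sa3 (sa2 (sa1 (sb (x) y.b) y.a1) y.a2) y.a3) y.c1) y.c2) y.c3) y.d1) y.d2) y.d3) y.e) y.f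

theorem W_mul (x y : C F) : W x * W y = W (cmul x y) := by
  rw [show W y = X 14 y.b * X 18 y.a1 * X 13 y.a2 * X 12 y.a3 * X 19 y.c1 * X 16 y.c2 * X 15 y.c3 * X 17 y.d1 * X 20 y.d2 * X 21 y.d3 * X 22 y.e * X 23 y.f from rfl]
  simp only [← mul_assoc, mul_b, mul_a1, mul_a2, mul_a3, mul_c1, mul_c2, mul_c3, mul_d1, mul_d2, mul_d3, mul_e, mul_f, cmul]

/-- The coordinates of a product in the root order. -/
def ofRoots (t : Fin Cfsg.Lie.chevD4.nroots → F) : C F :=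
  sf (se (sd3 (sd2 (sc1 (sa1 (sd1 (sc2 (sc3 (sb (sa2 (sa3 (C.zero) (t (rt 12))) (t (rt 13))) (t (rt 14))) (t (rt 15))) (t (rt 16))) (t (rt 17))) (t (rt 18))) (t (rt 19))) (t (rt 20))) (t (rt 21))) (t (rt 22))) (t (rt 23))

theorem rootList_pos : rootList CfsgLib.Chev.chevD4.toTables.Pos =
    [rt 12, rt 13, rt 14, rt 15, rt 16, rt 17, rt 18, rt 19, rt 20, rt 21, rt 22, rt 23] := by rfl

theorem prodL_eq (t : Fin Cfsg.Lie.chevD4.nroots → F) :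
    CfsgLib.Chev.chevD4.prodL (rootList CfsgLib.Chev.chevD4.toTables.Pos) t = W (ofRoots t) := by
  rw [rootList_pos]
  simp only [prodL, List.map_cons, List.map_nil, List.prod_cons, List.prod_nil, mul_one]
  rw [← one_mul (CfsgLib.Chev.chevD4.toAlg.xg (rt 12) (t (rt 12)) * _), ← W_zero (F := F)]
  simp only [← mul_assoc, mul_a3, mul_a2, mul_b, mul_c3, mul_c2, mul_d1, mul_a1, mul_c1, mul_d2, mul_d3, mul_e, mul_f, ofRoots]

/-- The root coordinates of an element. -/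
def toRoots (x : C F) (r : Fin Cfsg.Lie.chevD4.nroots) : F :=
  match r.val with
  | 12 => x.a3
  | 13 => x.a2
  | 14 => x.b
  | 15 => x.c3 + x.b * x.a3
  | 16 => x.c2 + x.b * x.a2
  | 17 => x.d1 + x.b * x.a2 * x.a3
  | 18 => x.a1
  | 19 => x.c1
  | 20 => x.d2 + x.a1 * x.c3
  | 21 => x.d3 + x.a1 * x.c2
  | 22 => x.e + x.a1 * x.d1
  | 23 => x.f + x.a1 * x.c2 * x.c3 + x.c1 * x.d1
  | _ => 0

theorem ofRoots_toRoots (x : C F) : ofRoots (toRoots x) = x := by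
  ext <;> simp [ofRoots, toRoots, C.zero, sb, sa1, sa2, sa3, sc1, sc2, sc3, sd1, sd2, sd3, se, sf] <;>
    ring_nf <;> simp [CharTwo.two_eq_zero, four_eq_zero]

theorem W_inj {x y : C F} (h : W x = W y) : x = y := by
  rw [← ofRoots_toRoots x, ← ofRoots_toRoots y, ← prodL_eq, ← prodL_eq] at h
  have key := CfsgLib.Chev.chevD4.prodL_injective (pairwise_rootList _) (fun r hr => mem_rootList.mp hr) h
  have g : ∀ n (hn : n < Cfsg.Lie.chevD4.nroots), 12 ≤ n → toRoots x ⟨n, hn⟩ = toRoots y ⟨n, hn⟩ :=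
    fun n hn h12 => key _ (mem_rootList.mpr (show 24 ≤ 2 * n by omega))
  rw [← ofRoots_toRoots x, ← ofRoots_toRoots y]
  unfold ofRoots
  rw [g 12 _ (by norm_num), g 13 _ (by norm_num), g 14 _ (by norm_num), g 15 _ (by norm_num), g 16 _ (by norm_num), g 17 _ (by norm_num), g 18 _ (by norm_num), g 19 _ (by norm_num), g 20 _ (by norm_num), g 21 _ (by norm_num), g 22 _ (by norm_num), g 23 _ (by norm_num)]

theorem exists_W {u : GL Cfsg.Lie.chevD4.Idx F} (hu : u ∈ Cfsg.Lie.chevD4.posUnipotent F) : ∃ x, u = W x := by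
  classical
  rw [CfsgLib.Chev.chevD4.posUnipotent_eq_US, CfsgLib.Chev.chevD4.mem_US_iff
    (S := CfsgLib.Chev.chevD4.toTables.Pos) (fun r hr => hr) CfsgLib.Chev.chevD4.closed_pos] at hu
  obtain ⟨t, rfl⟩ := hu
  exact ⟨_, prodL_eq t⟩

end

end CfsgLib.D4Inv
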